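import Cfsg.Agent.Lib.Lead.Yoshida
import Cfsg.Agent.Lib.H8.PIndex
import Cfsg.Agent.Lib.H8.Product
import Cfsg.Agent.Lib.H8.Induced
import Cfsg.Agent.Lib.H9.PGroup
import Cfsg.Agent.Lib.H1.Frattini

/-!
# Tate's theorem for fusion systems
-/

set_option autoImplicit false

namespace Cfsg.Agent.Lead

open Cfsg Cfsg.FusionSystem Cfsg.Agent.H7 Cfsg.Agent.H8
open scoped commutatorElement IsMulCommutative

variable {Ω : Type*} [Group Ω] {S : Subgroup Ω} {F : FusionSystem S} {p : ℕ}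

/-- If `hyp F = M ⟨z⟩` with `z` central of order `p` modulo `M`, then some homomorphism from `S` to a
group of exponent `p` kills `M` but not `z`. -/
theorem exists_hom_of_hyp_quot [Finite S] [hp : Fact p.Prime] (hS : IsPGroup p S)
    (hF : F.IsSaturated p) {M : Subgroup Ω} (hM : S ≤ Subgroup.normalizer (M : Set Ω))
    (hMU : M ≤ F.hyperfocalSubgroup p) {z : Ω} (hz : z ∈ F.hyperfocalSubgroup p) (hzM : z ∉ M)
    (hzp : z ^ p ∈ M) (hzc : ∀ x ∈ S, ⁅x, z⁆ ∈ M)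
    (hU : F.hyperfocalSubgroup p ≤ M ⊔ Subgroup.zpowers z) :
    ∃ K : Subgroup S, commutator S ≤ K ∧ (∀ x : S, x ^ p ∈ K) ∧ M.subgroupOf S ≤ K ∧
      ∀ h : z ∈ S, (⟨z, h⟩ : S) ∉ K := by
  classical
  have hUS : F.hyperfocalSubgroup p ≤ S := F.hyperfocalSubgroup_le p
  have hzS : z ∈ S := hUS hz
  have hMn : (M.subgroupOf S).Normal := ⟨fun n hn g =>
    show ((g * n * g⁻¹ : S) : Ω) ∈ M from conj_mem_of_mem_normalizer (hM g.2) hn⟩
  let Q := S ⧸ M.subgroupOf S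
  let π : S →* Q := QuotientGroup.mk' _
  have hπ1 : ∀ s : S, π s = 1 ↔ (s : Ω) ∈ M := fun s => QuotientGroup.eq_one_iff s
  have hQ : IsPGroup p Q := hS.to_quotient _
  have hQt : IsPGroup p (⊤ : Subgroup Q) := hQ.to_subgroup _
  let zb : Q := π ⟨z, hzS⟩
  have hzb : ∀ q : Q, q * zb = zb * q := fun q => by
    obtain ⟨s, rfl⟩ := QuotientGroup.mk'_surjective (M.subgroupOf S) q
    have : π ⁅s, (⟨z, hzS⟩ : S)⁆ = 1 := (hπ1 _).2 (hzc s s.2)
    rw [map_commutatorElement, commutatorElement_eq_one_iff_mul_comm] at this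
    exact this
  let A : Subgroup Q := Subgroup.zpowers zb
  have hA : ∀ a ∈ A, ∀ q : Q, q * a = a * q := by
    rintro _ ⟨k, rfl⟩ q
    exact (Commute.zpow_right (hzb q) k)
  have hAp : ∀ a : A, a ^ p = 1 := by
    rintro ⟨_, k, rfl⟩
    apply Subtype.ext
    show (zb ^ k) ^ p = 1
    rw [← zpow_natCast, ← zpow_mul, mul_comm, zpow_mul, zpow_natCast, ← map_pow,
      (hπ1 _).2 hzp, one_zpow]
  have hUA : ∀ (u : S), (u : Ω) ∈ F.hyperfocalSubgroup p → π u ∈ A := fun u hu => by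
    have hn : Subgroup.zpowers z ≤ Subgroup.normalizer (M : Set Ω) :=
      (Subgroup.zpowers_le.2 hzS).trans hM
    have := hU hu
    rw [sup_comm] at this
    obtain ⟨m, hm, _, ⟨k, rfl⟩, e⟩ := (mem_sup_of_le_normalizer' hn).1 this
    have e' : u = ⟨m, hUS (hMU hm)⟩ * (⟨z, hzS⟩ : S) ^ k := Subtype.ext (by simpa using e.symm)
    rw [e', map_mul, (hπ1 _).2 hm, one_mul, map_zpow]
    exact ⟨k, rfl⟩
  obtain ⟨F', hF'⟩ := exists_productSystem F (innerFusionSystem (⊤ : Subgroup Q))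
  have hS' : IsPGroup p (S.prod (⊤ : Subgroup Q)) := isPGroup_prod' hS hQt
  have hin : (innerFusionSystem (⊤ : Subgroup Q)).IsSaturated p :=
    innerFusionSystem_isSaturated hQt
  have hsat : F'.IsSaturated p := prod_isSaturated hS hQt hF hin hF'
  let St : Subgroup (Ω × Q) :=
    { carrier := {x | ∃ h : x.1 ∈ S, (π ⟨x.1, h⟩)⁻¹ * x.2 ∈ A}
      mul_mem' := by
        rintro x y ⟨hx, hx'⟩ ⟨hy, hy'⟩
        refine ⟨S.mul_mem hx hy, ?_⟩
        have e : (⟨(x * y).1, S.mul_mem hx hy⟩ : S) = ⟨x.1, hx⟩ * ⟨y.1, hy⟩ := rfl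
        rw [e, map_mul]
        have := hA _ hx' (π ⟨y.1, hy⟩)⁻¹
        convert A.mul_mem hx' hy' using 1
        rw [← mul_assoc, ← this, Prod.snd_mul]; group
      one_mem' := ⟨S.one_mem, by
        have e : (⟨(1 : Ω × Q).1, S.one_mem⟩ : S) = 1 := rfl
        rw [e]; simp⟩
      inv_mem' := by
        rintro x ⟨hx, hx'⟩
        refine ⟨S.inv_mem hx, ?_⟩
        have e : (⟨(x⁻¹).1, S.inv_mem hx⟩ : S) = ⟨x.1, hx⟩⁻¹ := rfl
        rw [e, map_inv]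
        have := hA _ (A.inv_mem hx') (π ⟨x.1, hx⟩)
        convert A.inv_mem hx' using 1
        have h2 : (π ⟨x.1, hx⟩)⁻¹⁻¹ * x⁻¹.2 =
          π ⟨x.1, hx⟩ * ((π ⟨x.1, hx⟩)⁻¹ * x.2)⁻¹ * (π ⟨x.1, hx⟩)⁻¹ := by
          rw [Prod.snd_inv]; group
        rw [h2, this]; group }
  have hSt : ∀ x : Ω × Q, x ∈ St ↔ ∃ h : x.1 ∈ S, (π ⟨x.1, h⟩)⁻¹ * x.2 ∈ A := fun x => Iff.rfl
  have hStle : St ≤ S.prod ⊤ := fun x hx => ⟨hx.1, trivial⟩
  have hUSt : (F.hyperfocalSubgroup p).prod ⊥ ≤ St := by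
    rintro ⟨u, q⟩ ⟨hu, hq⟩
    have hq' : q = 1 := hq
    subst hq'
    exact ⟨hUS hu, by simpa using A.inv_mem (hUA ⟨u, hUS hu⟩ hu)⟩
  have hn' : S.prod (⊤ : Subgroup Q) ≤
      Subgroup.normalizer (((F.hyperfocalSubgroup p).prod (⊥ : Subgroup Q) : Subgroup _) : Set _) := by
    intro s hs
    refine mem_normalizer_of_conj (fun x hx => ⟨?_, ?_⟩) (fun x hx => ⟨?_, ?_⟩)
    · exact conj_mem_of_mem_normalizer (le_normalizer_hyp F p hs.1) hx.1
    · have : x.2 = 1 := hx.2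
      show s.2 * x.2 * s.2⁻¹ = 1
      simp [this]
    · exact inv_conj_mem_of_mem_normalizer (le_normalizer_hyp F p hs.1) hx.1
    · have : x.2 = 1 := hx.2
      show s.2⁻¹ * x.2 * s.2 = 1
      simp [this]
  have hhyp : F'.hyperfocalSubgroup p ≤ (F.hyperfocalSubgroup p).prod ⊥ := by
    refine hyp_le_of_conjMod hS' hn' fun P f hf => ?_
    obtain ⟨f₁, f₂, h₁, h₂, e⟩ := prod_isIso_split hF' hf.isIso_img
    obtain ⟨s, hs, h₁'⟩ := conjMod_of_hyp_le hF hS (le_normalizer_hyp F p) le_rfl h₁.mor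
    obtain ⟨-, q, -, h₂'⟩ := innerFusionSystem_isMor.1 h₂.mor
    refine ⟨(s, q), ⟨hs, trivial⟩, fun x hx => ⟨?_, ?_⟩⟩
    · rw [e x hx]; exact h₁' _ (fst_mem_pr₁ hx)
    · rw [e x hx]
      show (q * x.2 * q⁻¹)⁻¹ * f₂ x.2 = 1
      rw [h₂' _ (snd_mem_pr₂ hx)]; exact inv_mul_cancel _
  obtain ⟨E, hE, hEi⟩ := exists_pPowerIndex hsat hS' hStle (hhyp.trans hUSt)
  have : Finite St := finite_of_le hStle
  have hStp : IsPGroup p St := hS'.to_le hStle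
  have hinl : ∀ u ∈ F.hyperfocalSubgroup p, ((u, 1) : Ω × Q) ∈ St := fun u hu =>
    hUSt (show ((u, 1) : Ω × Q) ∈ (F.hyperfocalSubgroup p).prod ⊥ from ⟨hu, rfl⟩)
  have hfoc : F.hyperfocalSubgroup p ≤ E.focalSubgroup.comap (MonoidHom.inl Ω Q) := by
    refine hyperfocalSubgroup_le_iff'.2 fun P hP α hα ho => ?_
    have : Finite P := finite_of_le hP
    have hsc := stronglyClosed_hyp hF hS
    refine mem_modAut_of_two_step (hS.to_le hP) ho (N := F.hyperfocalSubgroup p)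
      (fun x hx => mem_hyperfocalSubgroup hP hα ho hx) (fun x hx hxU => ?_) (fun x _ hxU => ?_)
    · let P₀ : Subgroup Ω := P ⊓ F.hyperfocalSubgroup p
      have hi : F.IsIso P₀ P₀ (equivFun α) := hsc.isIso_inf (isIso_of_mem_autGroup hP hα)
      obtain ⟨β, hβ, eβ⟩ := hi.exists_aut
      have hoβ : (orderOf β).Coprime p :=
        coprime_of_res inf_le_left (fun y hy => (eβ y hy).symm) ho
      have hm : F'.IsMor (P₀.prod ⊥) (fun y => (equivFun α y.1, id y.2)) :=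
        prod_isMor hF' hi.mor (isMor_id _ bot_le) le_rfl
      have hi' : F'.IsIso (P₀.prod ⊥) (P₀.prod ⊥) (fun y => (equivFun α y.1, id y.2)) :=
        hm.isIso_self fun y hy => ⟨hi.mapsTo _ hy.1, hy.2⟩
      obtain ⟨γ, hγ, eγ⟩ := hi'.exists_aut
      have hind : Ind (fun y : Ω => ((y, 1) : Ω × Q)) β γ := fun y hy => by
        rw [eγ _ (show ((y, 1) : Ω × Q) ∈ P₀.prod ⊥ from ⟨hy, rfl⟩), eβ y hy]; rfl
      have hoγ : (orderOf γ).Coprime p :=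
        hind.coprime (fun y hy => show ((y, 1) : Ω × Q) ∈ P₀.prod ⊥ from ⟨hy, rfl⟩)
          (fun y hy => ⟨y.1, hy.1, Prod.ext rfl (Eq.symm hy.2)⟩) hoβ
      have hle : P₀.prod ⊥ ≤ St := fun y hy => hUSt ⟨hy.1.2, hy.2⟩
      have hγE := (hasPPowerIndexIn_iff.1 hEi).2.2 _ hle γ hγ hoγ
      have := (isMor_of_mem_autGroup hle hγE).mem_focalSubgroup
        (show ((x, 1) : Ω × Q) ∈ P₀.prod ⊥ from ⟨⟨hx, hxU⟩, rfl⟩)
      rw [eγ _ (show ((x, 1) : Ω × Q) ∈ P₀.prod ⊥ from ⟨⟨hx, hxU⟩, rfl⟩)] at this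
      simpa using this
    · have hn : St ≤ Subgroup.normalizer (E.focalSubgroup : Set (Ω × Q)) :=
        H9.le_normalizer_of_commutator_le E.focalSubgroup_le (commutator_le_focal E)
      refine mem_normalizer_of_conj (fun y hy => ?_) (fun y hy => ?_)
      · have := conj_mem_of_mem_normalizer (hn (hinl x hxU)) hy
        simpa using this
      · have := inv_conj_mem_of_mem_normalizer (hn (hinl x hxU)) hy
        simpa using this
  have hz1 : ((1, zb) : Ω × Q) ∈ St := ⟨S.one_mem, by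
    have e : (⟨((1, zb) : Ω × Q).1, S.one_mem⟩ : S) = 1 := rfl
    rw [e]; simp [A]⟩
  have hzc' : ((1, zb) : Ω × Q) ∈ E.center := by
    refine (hE.mem_center_iff hStp).2 ⟨hz1, fun y hy => ?_⟩
    obtain ⟨P, f, hf, hx, rfl⟩ := isConjElt_iff.1 hy
    obtain ⟨f₁, f₂, h₁, h₂, e⟩ := (isProductSystem_iff.1 hF' P f).1 (hEi.1.isMor hf)
    obtain ⟨-, q, -, h₂'⟩ := innerFusionSystem_isMor.1 h₂
    rw [e _ hx, h₂' _ (snd_mem_pr₂ hx)]
    show (f₁ 1, q * zb * q⁻¹) = _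
    rw [h₁.map_one, hzb q, mul_inv_cancel_right]
  let κ : St →* A := MonoidHom.mk' (fun x => ⟨(π ⟨x.1.1, x.2.1⟩)⁻¹ * x.1.2, x.2.2⟩) (by
    intro x y
    apply Subtype.ext
    have e : (⟨(x * y).1.1, (x * y).2.1⟩ : S) = ⟨x.1.1, x.2.1⟩ * ⟨y.1.1, y.2.1⟩ := rfl
    show (π ⟨(x * y).1.1, (x * y).2.1⟩)⁻¹ * (x.1.2 * y.1.2) =
      (π ⟨x.1.1, x.2.1⟩)⁻¹ * x.1.2 * ((π ⟨y.1.1, y.2.1⟩)⁻¹ * y.1.2)
    rw [e, map_mul]
    have := hA _ x.2.2 (π ⟨y.1.1, y.2.1⟩)⁻¹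
    rw [← mul_assoc ((π ⟨x.1.1, x.2.1⟩)⁻¹ * x.1.2), ← this]; group)
  obtain ⟨T, hT1, hT2⟩ := map_eq_one_of_mem_focal_center hStp hE κ (z := ⟨_, hz1⟩) hzc'
  let δ : S →* St := (S.subtype.prod π).codRestrict St fun s => ⟨s.2, by simp⟩
  have hδU : ∀ u : S, (u : Ω) ∈ F.hyperfocalSubgroup p → ∀ h : ((1, π u) : Ω × Q) ∈ St,
      T (δ u) = T ⟨_, h⟩ := fun u hu h => by
    have : δ u = ⟨_, hinl u hu⟩ * ⟨_, h⟩ := Subtype.ext (Prod.ext (by simp [δ]) (by simp [δ]))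
    rw [this, map_mul, hT1 ⟨_, hinl u hu⟩ (hfoc hu), one_mul]
  refine ⟨(T.comp δ).ker, Abelianization.commutator_subset_ker _, fun x => ?_, fun m hm => ?_,
    fun h hK => ?_⟩
  · rw [MonoidHom.mem_ker, map_pow]; exact hAp _
  · have h1 : π m = 1 := (hπ1 m).2 hm
    have h2 : ((1, π m) : Ω × Q) ∈ St := by rw [h1]; exact St.one_mem
    show T (δ m) = 1
    rw [hδU m (hMU hm) h2]
    have : (⟨_, h2⟩ : St) = 1 := Subtype.ext (Prod.ext rfl h1)
    rw [this, map_one]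
  · have h1 : T (δ ⟨z, h⟩) = 1 := hK
    rw [hδU ⟨z, h⟩ hz hz1] at h1
    have h2 := congrArg Subtype.val (hT2 h1)
    have e : (⟨((1, zb) : Ω × Q).1, S.one_mem⟩ : S) = 1 := rfl
    have h3 : (π ⟨((1, zb) : Ω × Q).1, S.one_mem⟩)⁻¹ * zb = 1 := h2
    rw [e, map_one, inv_one, one_mul] at h3
    exact hzM ((hπ1 _).1 h3)

/-- Tate's theorem: if `hyp F ≤ Φ(S) V` for a normal subgroup `V ≤ hyp F` then `hyp F = V`. -/
theorem tate [Finite S] [hp : Fact p.Prime] (hS : IsPGroup p S) (hF : F.IsSaturated p)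
    {V : Subgroup Ω} (hV : S ≤ Subgroup.normalizer (V : Set Ω)) (hVU : V ≤ F.hyperfocalSubgroup p)
    (h : F.hyperfocalSubgroup p ≤ (frattini S).map S.subtype ⊔ V) : F.hyperfocalSubgroup p = V := by
  by_contra hne
  have hUS : F.hyperfocalSubgroup p ≤ S := F.hyperfocalSubgroup_le p
  obtain ⟨M, ⟨hVM, hMU, hM⟩, hmax⟩ := exists_max_card (S := S)
    (𝓒 := {M | V ≤ M ∧ M < F.hyperfocalSubgroup p ∧ S ≤ Subgroup.normalizer (M : Set Ω)})
    (fun Q hQ => hQ.2.1.le.trans hUS) ⟨V, le_rfl, lt_of_le_of_ne hVU (Ne.symm hne), hV⟩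
  obtain ⟨z, hz, hzM, hzp, hzc⟩ :=
    H9.exists_mem_commutator_mem_of_lt hS hUS hM (le_normalizer_hyp F p) hMU
  have hle : M ⊔ Subgroup.zpowers z ≤ F.hyperfocalSubgroup p :=
    sup_le hMU.le (Subgroup.zpowers_le.2 hz)
  have hU : F.hyperfocalSubgroup p ≤ M ⊔ Subgroup.zpowers z := by
    by_contra hn
    have : Finite (M ⊔ Subgroup.zpowers z : Subgroup Ω) := finite_of_le (hle.trans hUS)
    have h1 := hmax (M ⊔ Subgroup.zpowers z) ⟨hVM.trans le_sup_left, lt_of_le_of_ne hle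
      (fun e => hn e.ge), fun s hs => mem_normalizer_of_finite fun x hx => ?_⟩
    · exact absurd (card_lt_of_mem le_sup_left
        (Subgroup.mem_sup_right (Subgroup.mem_zpowers z)) hzM) (not_lt.2 h1)
    · refine (isHomOn_conj _ s).mapsTo_sup (fun y hy => Subgroup.mem_sup_left
        (conj_mem_of_mem_normalizer (hM hs) hy)) ?_ x hx
      rintro _ ⟨k, rfl⟩
      show s * z ^ k * s⁻¹ ∈ _
      rw [← conj_zpow]
      refine Subgroup.zpow_mem _ ?_ k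
      have : s * z * s⁻¹ = ⁅s, z⁆ * z := by simp [commutatorElement_def]
      rw [this]
      exact Subgroup.mul_mem_sup (hzc s hs) (Subgroup.mem_zpowers z)
  obtain ⟨K, h1, h2, h3, h4⟩ := exists_hom_of_hyp_quot hS hF hM hMU.le hz hzM hzp hzc hU
  have h5 : (frattini S).map S.subtype ⊔ V ≤ K.map S.subtype :=
    sup_le (Subgroup.map_mono (H1.frattini_le_of_elementary_quotient hp.out h1 h2))
      fun v hv => ⟨⟨v, hUS (hVU hv)⟩, h3 (hVM hv), rfl⟩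
  obtain ⟨y, hy, e⟩ := h5 (h hz)
  exact h4 (hUS hz) (by
    have : y = ⟨z, hUS hz⟩ := Subtype.ext e
    rwa [← this])

end Cfsg.Agent.Lead
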