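import Cfsg.Agent.Lib.H9.CenterSq
import Cfsg.Agent.Lib.H3.Galois
import Cfsg.Agent.Lib.H2.Dihedral

/-!
# 2-groups with abelianization of order four; fields generated by algebraic numbers
-/

set_option autoImplicit false

open Subgroup

namespace Cfsg.Agent.Lead

universe u

theorem mem_adjoin_of_forall_ringEquiv {T : Set ℂ} (hT : ∀ t ∈ T, IsIntegral ℚ t) {x : ℂ}
    (hx : IsIntegral ℚ x) (h : ∀ σ : ℂ ≃+* ℂ, (∀ t ∈ T, σ t = t) → σ x = x) :
    x ∈ IntermediateField.adjoin ℚ T := by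
  let K := algebraicClosure ℚ ℂ
  let x' : K := ⟨x, mem_algebraicClosure_iff'.mpr hx⟩
  have : IsAlgClosure ℚ K := algebraicClosure.isAlgClosure ℚ ℂ
  have : IsGalois ℚ K := {}
  have h1 : x' ∈ (IntermediateField.adjoin ℚ T).comap K.val := by
    rw [← InfiniteGalois.fixedField_fixingSubgroup ((IntermediateField.adjoin ℚ T).comap K.val),
      IntermediateField.mem_fixedField_iff]
    intro σ₀ hσ₀
    obtain ⟨σ, hσ⟩ := H3.exists_ringEquiv_extend σ₀.toRingEquiv
    refine Subtype.ext ((hσ x').symm.trans (h σ fun t ht => ?_))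
    have := (IntermediateField.mem_fixingSubgroup_iff _ _).1 hσ₀
      ⟨t, mem_algebraicClosure_iff'.mpr (hT t ht)⟩ (IntermediateField.subset_adjoin ℚ T ht)
    exact (hσ ⟨t, mem_algebraicClosure_iff'.mpr (hT t ht)⟩).trans (congrArg Subtype.val this)
  exact h1

theorem fixed_of_mem_adjoin {T : Set ℂ} (σ : ℂ ≃+* ℂ) (h : ∀ t ∈ T, σ t = t) {x : ℂ}
    (hx : x ∈ IntermediateField.adjoin ℚ T) : σ x = x := by
  induction hx using IntermediateField.adjoin_induction with
  | mem x hx => exact h x hx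
  | algebraMap q => simp
  | add x y _ _ h1 h2 => rw [map_add, h1, h2]
  | inv x _ h1 => rw [map_inv₀, h1]
  | mul x y _ _ h1 h2 => rw [map_mul, h1, h2]

theorem adjoin_eq_of_forall_ringEquiv {T T' : Set ℂ} (hT : ∀ t ∈ T, IsIntegral ℚ t)
    (hT' : ∀ t ∈ T', IsIntegral ℚ t)
    (h : ∀ σ : ℂ ≃+* ℂ, (∀ t ∈ T, σ t = t) ↔ ∀ t ∈ T', σ t = t) :
    IntermediateField.adjoin ℚ T = IntermediateField.adjoin ℚ T' :=
  le_antisymm (IntermediateField.adjoin_le_iff.2 fun x hx =>
    mem_adjoin_of_forall_ringEquiv hT' (hT x hx) fun σ hσ => (h σ).2 hσ x hx)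
    (IntermediateField.adjoin_le_iff.2 fun x hx =>
      mem_adjoin_of_forall_ringEquiv hT (hT' x hx) fun σ hσ => (h σ).1 hσ x hx)

section
variable {P : Type*} [Group P] [Finite P]

theorem index_commutator_eq_of_abelian_index_two (hP : IsPGroup 2 P) {A : Subgroup P}
    (hA : ∀ a ∈ A, ∀ b ∈ A, a * b = b * a) (hi : A.index = 2) (hn : ¬ ∀ a b : P, a * b = b * a) :
    center P ≤ A ∧ (commutator P).index = 2 * Nat.card (center P) := by
  have h : H9.AbIdx 2 ⊤ A := ⟨hP.to_subgroup ⊤, le_top, hA, by rwa [relIndex_top_right],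
    fun h => hn fun a b => h a trivial b trivial⟩
  have h1 := h.relIndex_center
  rw [top_inf_eq, coe_top, centralizer_univ, ← commutator_def] at h1
  have hZ : center P ≤ A := by
    have := h.center_le
    rwa [top_inf_eq, coe_top, centralizer_univ] at this
  refine ⟨hZ, ?_⟩
  have h2 := (commutator P).card_mul_index
  rw [← A.card_mul_index, hi, ← H1.card_mul_relIndex hZ, h1] at h2
  exact Nat.eq_of_mul_eq_mul_left (Nat.card_pos (α := commutator P)) (by rw [h2]; ring)

theorem not_comm_of_index_commutator {n : ℕ} (hc : Nat.card P = 2 ^ (n + 3))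
    (h : (commutator P).index = 4) : ¬ ∀ a b : P, a * b = b * a := fun hab => by
  rw [(commutator_eq_bot_iff_center_eq_top P).2
    (eq_top_iff.2 fun z _ => mem_center_iff.2 fun g => hab g z), index_bot, hc] at h
  have : 2 ^ (n + 3) = 8 * 2 ^ n := by ring
  omega

theorem exists_orderOf_four_of_card_eight (hc : Nat.card P = 2 ^ 3)
    (hn : ¬ ∀ a b : P, a * b = b * a) : ∃ g : P, orderOf g = 2 ^ 2 := by
  obtain ⟨g, hg⟩ : ∃ g : P, g ^ 2 ≠ 1 := by
    by_contra h; push Not at h
    exact hn (mul_comm_of_exponent_two (by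
      rcases (Nat.dvd_prime Nat.prime_two).1 (Monoid.exponent_dvd_of_forall_pow_eq_one h) with h1 | h1
      · rw [Monoid.exp_eq_one_iff] at h1
        exact absurd (fun a b => Subsingleton.elim _ _) hn
      · exact h1))
  obtain ⟨k, hk, hk'⟩ := (Nat.dvd_prime_pow Nat.prime_two).1 (hc ▸ orderOf_dvd_natCard g)
  refine ⟨g, ?_⟩
  interval_cases k
  · exact absurd (orderOf_dvd_iff_pow_eq_one.1 (by rw [hk']; norm_num)) hg
  · exact absurd (orderOf_dvd_iff_pow_eq_one.1 (by rw [hk']; norm_num)) hg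
  · exact hk'
  · have := isCyclic_of_orderOf_eq_card g (hk'.trans hc.symm)
    exact absurd this.commutative.is_comm.comm hn

end

/-- Taussky's theorem. -/
theorem exists_orderOf_of_index_commutator (n : ℕ) : ∀ (P : Type u) [Group P] [Finite P],
    Nat.card P = 2 ^ (n + 3) → (commutator P).index = 4 → ∃ g : P, orderOf g = 2 ^ (n + 2) := by
  induction n with
  | zero => exact fun P _ _ hc h =>
      exists_orderOf_four_of_card_eight hc (not_comm_of_index_commutator hc h)
  | succ n ih =>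
  intro P _ _ hc h
  have hP : IsPGroup 2 P := IsPGroup.of_card hc
  have hn := not_comm_of_index_commutator hc h
  have := hP.isNilpotent
  obtain ⟨z, hz, hz2⟩ : ∃ z ∈ commutator P ⊓ center P, orderOf z = 2 := by
    have h1 := H2.inf_center_ne_bot (commutator P) fun h0 => hn fun a b =>
      mem_center_iff.1 (((commutator_eq_bot_iff_center_eq_top P).1 h0).ge (mem_top b)) a
    obtain ⟨k, hk⟩ := (hP.to_subgroup (commutator P ⊓ center P)).exists_card_eq
    obtain ⟨z, hz⟩ := exists_prime_orderOf_dvd_card' (G := (commutator P ⊓ center P : Subgroup P)) 2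
      (hk ▸ dvd_pow_self 2 fun h0 => h1 (card_eq_one.1 (by rw [hk, h0, pow_zero])))
    exact ⟨z, z.2, by rwa [orderOf_coe]⟩
  have hZn : (zpowers z).Normal := ⟨fun w hw x => by
    rwa [mem_center_iff.1 (zpowers_le.2 hz.2 hw) x, mul_inv_cancel_right]⟩
  set π := QuotientGroup.mk' (zpowers z)
  have hker : π.ker = zpowers z := QuotientGroup.ker_mk' _
  have hsurj := QuotientGroup.mk'_surjective (zpowers z)
  have hcq : Nat.card (P ⧸ zpowers z) = 2 ^ (n + 3) := by
    have := card_eq_card_quotient_mul_card_subgroup (zpowers z)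
    rw [Nat.card_zpowers, hz2, hc, pow_succ] at this
    omega
  obtain ⟨g, hg⟩ := ih (P ⧸ zpowers z) hcq (by
    have : commutator (P ⧸ zpowers z) = (commutator P).map π := by
      rw [map_commutator_eq, MonoidHom.range_eq_top.2 hsurj]; rfl
    rw [this, index_map, hker,
      sup_eq_left.2 (zpowers_le.2 hz.1), MonoidHom.range_eq_top.2 hsurj, index_top, mul_one, h])
  obtain ⟨g, rfl⟩ := hsurj g
  have hzz : ∀ w ∈ zpowers z, w ^ 2 = 1 := by
    rintro _ ⟨i, rfl⟩; rw [← zpow_natCast, ← zpow_mul, mul_comm, zpow_mul, zpow_natCast, ← hz2,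
      pow_orderOf_eq_one, one_zpow]
  have h1 : g ^ 2 ^ (n + 2) ∈ zpowers z := by
    rw [← hker, MonoidHom.mem_ker, map_pow, ← hg, pow_orderOf_eq_one]
  by_cases h2 : g ^ 2 ^ (n + 2) = 1
  swap
  · exact ⟨g, orderOf_eq_prime_pow h2 (by rw [pow_succ, pow_mul, hzz _ h1])⟩
  exfalso
  set A := (zpowers (π g)).comap π
  have hA : ∀ a ∈ A, ∃ i : ℤ, ∃ w ∈ zpowers z, a = g ^ i * w := by
    rintro a ⟨i, hi⟩
    exact ⟨i, (g ^ i)⁻¹ * a, by rw [← hker, MonoidHom.mem_ker, map_mul, map_inv, map_zpow, ← hi]; simp,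
      by simp⟩
  have hzc : ∀ w ∈ zpowers z, ∀ x, x * w = w * x := fun w hw x =>
    mem_center_iff.1 (zpowers_le.2 hz.2 hw) x
  have hAi : A.index = 2 := by
    rw [index_comap_of_surjective _ hsurj]
    have := (zpowers (π g)).card_mul_index
    rw [Nat.card_zpowers, hg, hcq, pow_succ] at this
    exact Nat.eq_of_mul_eq_mul_left (by positivity) this
  obtain ⟨-, h3⟩ := index_commutator_eq_of_abelian_index_two hP (A := A) (fun a ha b hb => by
    obtain ⟨i, w, hw, rfl⟩ := hA a ha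
    obtain ⟨j, v, hv, rfl⟩ := hA b hb
    rw [mul_assoc, ← mul_assoc w, ← hzc w hw, mul_assoc, mul_assoc (g ^ j), ← mul_assoc v, ← hzc v hv,
      mul_assoc, hzc w hw v, ← mul_assoc, ← mul_assoc, ← mul_assoc, ← mul_assoc, ← zpow_add,
      ← zpow_add, add_comm]) hAi hn
  have hAn : A.Normal := normal_of_index_eq_two hAi
  set u := g ^ 2 ^ (n + 1) with hu
  have hu2 : u ^ 2 = 1 := by rw [hu, ← pow_mul, ← pow_succ, h2]
  have huz : u ∉ zpowers z := by
    rw [← hker, MonoidHom.mem_ker, map_pow, ← orderOf_dvd_iff_pow_eq_one, hg,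
      Nat.pow_dvd_pow_iff_le_right one_lt_two]
    omega
  have huc : u ∈ center P := mem_center_iff.2 fun y => by
    obtain ⟨i, w, hw, hi⟩ := hA _ (hAn.conj_mem g (mem_zpowers (π g)) y)
    have h4 : y * u * y⁻¹ = u ^ i := by
      rw [hu, ← conj_pow, hi, (show Commute (g ^ i) w from hzc w hw _).mul_pow, pow_succ' 2 n,
        pow_mul w, hzz w hw, one_pow, mul_one, ← zpow_natCast, ← zpow_natCast, ← zpow_mul,
        ← zpow_mul, mul_comm]
    rcases Int.even_or_odd' i with ⟨j, rfl | rfl⟩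
    · rw [zpow_mul, zpow_ofNat, hu2, one_zpow, conj_eq_one_iff] at h4
      exact absurd (h4 ▸ one_mem _) huz
    · rw [zpow_add, zpow_mul, zpow_ofNat, hu2, one_zpow, one_mul, zpow_one] at h4
      exact mul_inv_eq_iff_eq_mul.1 h4
  have h5 : zpowers z = center P := eq_of_le_of_card_ge (zpowers_le.2 hz.2) (by
    rw [Nat.card_zpowers, hz2]; omega)
  exact huz (h5 ▸ huc)

end Cfsg.Agent.Lead
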