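import Cfsg.Agent.Lib.Lead.Fitting2

/-!
# Normal subsystems of normalizer systems; E-balance
-/

set_option autoImplicit false
set_option linter.unusedSectionVars false

namespace Cfsg.Agent.Lead

open Cfsg Cfsg.FusionSystem Cfsg.Agent.H7 Cfsg.Agent.H8

variable {Ω : Type*} [Group Ω] {S T T' P Q R U V W X Y Z : Subgroup Ω} {p : ℕ}
  {F : FusionSystem S} {E : FusionSystem T} {D : FusionSystem U} {C : FusionSystem W}
  {N : FusionSystem R} {f g : Ω → Ω}

theorem congrAut_sub (h : N.IsSubsystemOf F) (hi : N.IsIso P Q f) (α : MulAut P) :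
    (h.isIso hi).congrAut α = hi.congrAut α :=
  (h.isIso hi).congrAut_eq fun _ hx => hi.equivFun_congrAut α hx

theorem isNormMor_conj {X' R' : Subgroup Ω} {χ χ' : Ω → Ω} (hχ : F.IsIso R R' χ)
    (hχ' : F.IsIso R' R χ') (e : ∀ x ∈ R, χ' (χ x) = x) (hX : F.IsIso X X' χ) (hXR : X ≤ R)
    (hR : normalizerIn S X ≤ R) (h : F.IsNormMor X P f) :
    F.IsNormMor X' (img P χ) (fun y => χ (f (χ' y))) := by
  obtain ⟨hP, g, hg, eg, hgX⟩ := h
  have hPV : P ⊔ X ≤ R := sup_le (hP.trans hR) hXR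
  have hi := IsIso.sup (hχ.mor.mono hPV) (hχ.mor.isIso_img_of_le (hP.trans hR)) hX
  have hi' := IsIso.symm_restrict hχ' hi (IsIso.le_of_le hχ hi hPV) fun x hx => e x (hPV hx)
  have hX' := IsIso.symm_restrict hχ' hX (IsIso.le_of_le hχ hX hXR) fun x hx => e x (hXR hx)
  refine ⟨img_le_iff.2 fun x hx => ⟨hχ.mor.mem (hR (hP hx)),
    hX.map_mem_normalizer hχ.mor hXR (hR (hP hx)) (hP hx).2⟩, fun y => χ (g (χ' y)),
    hχ.mor.comp' (hg.comp' hi'.mor hi'.mapsTo) fun y hy =>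
      hg.isHomOn.mapsTo_sup (fun x hx => hR ⟨hg.mem (Subgroup.mem_sup_left hx),
        hgX.map_mem_normalizer hg le_sup_right (Subgroup.mem_sup_left hx) (hP hx).2⟩)
        (fun x hx => hXR (hgX.mapsTo x hx)) _ (hi'.mapsTo y hy),
    fun y hy => ?_, hX.comp' (hgX.comp' hX')⟩
  obtain ⟨x, hx, rfl⟩ := (hχ.mor.mono (hP.trans hR)).mem_img.1 hy
  simp only [e x (hR (hP hx)), eg x hx]

/-- Normalizer systems are transported along isomorphisms of the normalizers. -/
theorem norm_isoVia {X' R' : Subgroup Ω} {χ : Ω → Ω} {N' : FusionSystem R'}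
    (hN : F.IsKNormSys X ⊤ N) (hN' : F.IsKNormSys X' ⊤ N') (hχ : F.IsIso R R' χ)
    (hX : F.IsIso X X' χ) : ∃ χ', N.IsoVia N' χ χ' := by
  obtain ⟨χ', h3, e1, e2⟩ := hχ.exists_symm
  have hXR := hN.le_top hX.le_left
  have hXR' := hN'.le_top hX.le_right
  have h5 := IsIso.symm_restrict h3 hX hXR' fun x hx => e1 x (hXR hx)
  exact ⟨χ', ⟨hχ.mor.isHomOn, h3.mor.isHomOn, hχ.mapsTo, h3.mapsTo, e1, e2⟩,
    fun P f hf => hN'.top_isMor_iff.2 (isNormMor_conj hχ h3 e1 hX hXR hN.top_eq.ge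
      (hN.top_isMor_iff.1 hf)),
    fun P f hf => hN.top_isMor_iff.2 (isNormMor_conj h3 hχ e2 h5 hXR' hN'.top_eq.ge
      (hN'.top_isMor_iff.1 hf))⟩

variable [Finite S] [Fact p.Prime]

/-- A normal subsystem of `F` induces a normal subsystem of `N_F(X)`. -/
theorem exists_local_normal (hS : IsPGroup p S) (hE : E.IsNormalIn F p)
    (hX : F.IsFullyNormalized X) (hN : F.IsKNormSys X ⊤ N) :
    ∃ M : FusionSystem (T ⊓ R : Subgroup Ω), M.IsNormalIn N p ∧ M.IsSubsystemOf E := by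
  have hF := hE.1.2.1
  have hEi := hE.1.2.2
  have hT := Inv.sc hEi
  have hK := hF.isFullyKNormalized_of_le hS hX (le_top (a := autInducedBy S X))
  have hNs := hN.isSaturated hF hS hK
  have hNF := hN.isSubsystemOf
  have := hN.finite
  have hR := hN.isPGroup hS
  have hXN := hN.isNormal_top hX.le
  obtain ⟨B, hB, eB⟩ := exists_fam_centric hF hS hE
  have hc : ∀ {P}, X ≤ P ∧ N.IsCentric P → F.IsCentric P := fun h =>
    (hN.isCentric_iff hS hK h.1 h.2.le).1 h.2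
  have hV : N.StronglyClosed (T ⊓ R) := stronglyClosed_iff.2 ⟨inf_le_right,
    fun P f hf x hx hxV => ⟨hT.map_mem (hNF.isMor hf) hx hxV.1, hf.mem hx⟩⟩
  have hB' : Fam N (T ⊓ R) p (fun P => X ≤ P ∧ N.IsCentric P)
      (fun P => B P ⊓ N.autGroup P) :=
    { cent := fun h => h.2
      iso := fun {P Q f} h hi => ⟨fun x hx => by
        obtain ⟨y, hy, rfl⟩ := (hXN.weaklyClosed.isIso (hi.mor.mono h.1)).surj x hx
        exact hi.mapsTo y (h.1 hy), h.2.of_isIso hi⟩
      up := fun h hPQ hQ => ⟨h.1.trans hPQ, h.2.mono hPQ hQ⟩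
      le := fun _ => inf_le_right
      mod := fun h α hα x hx => ⟨hB.mod (hc h) hα.1 x hx,
        h.2.le (Subgroup.mul_mem _ (Subgroup.inv_mem _ hx) (equivFun_mem α hx))⟩
      inv := fun hi h α hα => ⟨congrAut_sub hNF hi α ▸ hB.inv (hNF.isIso hi) (hc h) α hα.1,
        hi.congrAut_mem_autGroup_iff.2 hα.2⟩
      aut := fun h => le_inf ((autInducedBy_mono inf_le_left _).trans (hB.aut (hc h)))
        (N.autInducedBy_le_autGroup h.2.le inf_le_right)
      lift := fun {P Q} h hPQ hQ β hβ ho α e => by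
        have h1 := hB.lift (hc h) hPQ (hQ.trans (normalizerIn_mono_left hNF.le)) β
          (hNF.autGroup_le Q hβ) ho α e
        exact ⟨fun h2 => ⟨h1.1 h2.1, hβ⟩, fun h2 => ⟨h1.2 h2.1,
          (((isMor_of_mem_autGroup (hQ.trans normalizerIn_le) hβ).mono hPQ).congr e).mem_autGroup
            fun x => (equivFun_coe α x).symm⟩⟩ }
  obtain ⟨M, hM, eM⟩ := hB'.exists_normal_of_cr hNs hR hV fun P hc hr =>
    ⟨hXN.le_of_centric_radical hR hc hr, hc⟩
  have hMi := hM.1.2.2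
  obtain ⟨B₁, hB₁, eB₁⟩ := exists_fam_centric hNs hR hM
  have key : ∀ P, DT N (T ⊓ R) P → ∀ β ∈ BE M N P, (orderOf β).Coprime p → β ∈ BE E F P :=
    fun P hP β hβ ho => hB₁.induction_cr hNs hR (C := fun P β => β ∈ BE E F P)
      (fun P Q f hi α h => (congrAut_mem_BE_iff hEi (hNF.isIso hi)).1 (congrAut_sub hNF hi α ▸ h))
      (fun P Q hPQ hQ α β e h => by
        have := finite_of_le hT.le
        exact mem_BE_of_res (hQ.trans hNF.le) hPQ e h)
      (fun P _ hc' hr β hβ ho => by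
        have hd := dt_of_cr hNs hR hMi hM.1.1 hc' hr
        have hΔ : X ≤ P ∧ N.IsCentric P := ⟨hXN.le_of_centric_radical hR hc' hr, hc'⟩
        exact hB.mem_BE_of_centric hF hS hEi (fun P hc hr β hβ _ =>
          eB P (dt_of_cr hF hS hEi hE.1.1 hc hr) ▸ hβ) (hc hΔ)
          ((eM P hΔ hd.2 β ho).2 (eB₁ P hd ▸ hβ)).1 ho)
      hP.1 (eB₁ P hP ▸ hβ) ho
  have := finite_of_le hV.le
  refine ⟨M, hM, le_of_p' hM.1.1 (hR.to_le hV.le) inf_le_left fun U _ hU _ α hα ho => ?_⟩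
  have hU' := (tc_iff hMi).1 hU
  obtain ⟨U', χ, hfn, -, hi⟩ := hNs.exists_isFullyNormalized hR (hU'.le.trans hV.le)
  have hU'' := hU'.of_isIso hV hi
  obtain ⟨γ, hγ, hγo, e⟩ := exists_BE_lift hNs hR hM hU'' (Inv.congrAut_mem hMi hi hU'.le hα)
    (coprime_congrAut hi ho)
  exact (Inv.congrAut_mem_iff hEi (hNF.isIso hi) (hU'.le.trans inf_le_left)).1
    (congrAut_sub hNF hi α ▸ mem_autGroup_of_mem_BE (hU''.le.trans inf_le_left) le_sup_left
      (key _ (dt_sup hV.le hU'' (hNs.isFullyCentralized hR hfn)) γ hγ hγo) e)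

theorem IsGenFit.hyp_le (hS : IsPGroup p S) (hD : D.IsGeneralizedFittingOf F p)
    (hE : E.IsLayerOf F p) : D.hyperfocalSubgroup p ≤ T := by
  have hU := Inv.le (IsGenFit.isNormalIn hS hD).1.2.2
  have := finite_of_le hU
  obtain ⟨T', E', hE', h⟩ := isGeneralizedFittingOf_iff.1 hD
  refine le_trans ?_ (IsLayerOf.sub_layer hE' hE).le
  refine hyp_le_of_conjMod (hS.to_le hU) (hU.trans (Inv.sc hE'.1.1.2.2).le_normalizer)
    fun P f hf => ?_
  obtain ⟨P₁, P₂, g, -, -, hP, hg, h₁, h₂, e⟩ := h.exists_split hf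
  obtain ⟨-, q, hq, eq⟩ := innerFusionSystem_isMor.1 h₁
  refine ⟨q, h.le₁ hq, fun x hx => ?_⟩
  obtain ⟨a, ha, b, hb, rfl⟩ := (mem_sup_of_comm fun a ha b hb =>
    h.comm a (h₁.le ha) b (h₂.le hb)).1 (hP hx)
  rw [← e _ hx, hg.map_mul (Subgroup.mem_sup_left ha) (Subgroup.mem_sup_right hb), eq a ha]
  have hc := h.comm q hq b (h₂.le hb)
  have : (q * (a * b) * q⁻¹)⁻¹ * (q * a * q⁻¹ * g b) = (q * b * q⁻¹)⁻¹ * g b := by group
  rw [this, hc, mul_inv_cancel_right]
  exact T'.mul_mem (T'.inv_mem (h₂.le hb)) (h₂.mem hb)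

theorem not_isCentMor_of_tc (hS : IsPGroup p S) (hD : D.IsNormalIn F p) (hCE : CE D F p ≤ U)
    (hNF : N.IsSubsystemOf F) (hV : TC F U (U ⊓ R)) (hq : C.Quasisimple p)
    (h : ∀ P f, C.IsMor P f → N.IsCentMor (U ⊓ R) P f) : False := by
  have hWR : W ≤ R := (h W _ (isMor_id C le_rfl)).1.trans centralizerIn_le
  have := finite_of_le hNF.le
  have := finite_of_le hWR
  have hW : W ≤ CE D F p := by
    rw [← hq.2.1]
    refine hyperfocalSubgroup_le_iff'.2 fun P hP α hα ho x hx => ?_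
    obtain ⟨-, g, hg, e, e'⟩ := h P _ (isMor_of_mem_autGroup hP hα)
    have := finite_of_le hg.le
    obtain ⟨β₀, hβ₀, e₀⟩ := (hg.isIso_self (hg.isHomOn.mapsTo_sup (fun y hy => by
      rw [e y hy]; exact Subgroup.mem_sup_left (equivFun_mem α hy)) fun y hy => by
      rw [e' y hy]; exact Subgroup.mem_sup_right hy)).exists_aut
    obtain ⟨γ, ⟨hγ, hγU⟩, hγo, eγ⟩ := exists_coprime_of_mem_resImg (hPQ := le_sup_left)
      (A := F.autGroup _ ⊓ fixAut _ U) ⟨β₀, ⟨hNF.autGroup_le _ hβ₀, mem_fixAut.2 fun y hy hyU => by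
        rw [e₀ y hy, e' y ⟨hyU, hg.le hy⟩]⟩, fun y hy => by
        rw [e₀ y (Subgroup.mem_sup_left hy), e y hy]⟩ ho
    rw [← eγ x hx]
    exact mem_modAut_CE hD.1.2.1 hS hD (hg.le.trans hNF.le)
      (hV.mono (le_inf le_sup_right inf_le_left) inf_le_right) hγ hγU hγo x
      (Subgroup.mem_sup_left hx)
  exact Quasisimple.not_fixesOn (hS.to_le (hWR.trans hNF.le)) hq (le_inf (hW.trans hCE) hWR)
    fun P f hf x hx hxV => IsCentMor.apply_eq (h P f hf) hx hxV

theorem isComponentIn_of_cent (hS : IsPGroup p S) (hX : F.IsNormal X) (hE : E.IsNormalIn F p)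
    {K : FusionSystem R} (hK : IsCentSys K E F p) (hC : C.IsComponentIn K p) {L : FusionSystem S}
    (hL : L.IsSaturated p) (hLF : L.IsSubsystemOf F)
    (h : ∀ P g, X ⊔ T ≤ P → F.IsMor P g → L.IsMor P g) : C.IsComponentIn L p := by
  have hF := hE.1.2.1
  have hY : F.StronglyClosed (X ⊔ T) :=
    hF.stronglyClosed_sup hS (Inv.sc hE.1.2.2) hX.stronglyClosed
  have hCF := isComponentIn_of_normal hC hK.normal
  obtain ⟨T₀, E₀, hE₀⟩ := exists_isLayerOf hF hS
  obtain ⟨K₁, hK₁, -, -, -⟩ := exists_meet hF hS hK.normal hE₀.1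
  have hC₁ := isComponentIn_of_le hS hCF hK₁
    (le_inf (subnormal_sub hC.1).le (IsLayerOf.sub hE₀ hCF).le)
  have hc₁ : R ⊓ T₀ ≤ Subgroup.centralizer ((X ⊔ T : Subgroup Ω) : Set Ω) :=
    Subgroup.le_centralizer_iff.1 (sup_le (Subgroup.le_centralizer_iff.1 (inf_le_right.trans
      ((IsLayerOf.isCentMor hS hE₀ hX (isMor_id E₀ le_rfl)).1.trans inf_le_right)))
      (Subgroup.le_centralizer_iff.1 (inf_le_left.trans (hK.le_centralizerIn.trans inf_le_right))))
  have h₁ := Inv.le hK₁.1.2.2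
  have := finite_of_le h₁
  obtain ⟨T₂, K₂, hK₂⟩ := exists_isLayerOf hK₁.1.1 (hS.to_le h₁)
  have hK₂F := IsLayerOf.isNormalIn_of_normal hS hK₂ hK₁
  have h₂ := Inv.le hK₂.1.1.2.2
  have hn : K₁.IsNormal ((X ⊔ T) ⊓ (R ⊓ T₀)) := hK₁.1.1.isNormal_of_abelian (hS.to_le h₁)
    (stronglyClosed_iff.2 ⟨inf_le_right, fun P f hf x hx hxY =>
      ⟨hY.map_mem ((Inv.sub hK₁.1.2.2).isMor hf) hx hxY.1, hf.mem hx⟩⟩)
    fun x hx y hy => hc₁ hy.2 x hx.1
  have hfix : FixesOn K₂ (X ⊔ T) := fun P f hf x hx hxY => IsCentMor.apply_eq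
    (IsLayerOf.isCentMor (hS.to_le h₁) hK₂ hn hf) hx ⟨hxY, h₂ (hf.le hx)⟩
  refine isComponentIn_of_normal (isComponentIn_of_sub (hS.to_le h₁) hC₁ hK₂.1
    (IsLayerOf.sub hK₂ hC₁)) (isNormalIn_of_BE hF hS hK₂F hLF hL
      (isSubsystemOf_iff.2 fun P f hf => ?_) fun γ hγ _ => h _ _ (fun y hy =>
        Subgroup.mem_sup_right ⟨hY.le hy, fun t ht => (hc₁ (h₂ ht) y hy).symm⟩)
        (isMor_of_mem_autGroup (sup_le (h₂.trans h₁) centralizerIn_le) hγ.1.1))
  obtain ⟨-, g, hg, e, -⟩ := hfix.isCentMor hF hS hK₂F hY (h₂.trans hc₁) hf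
  exact ((h _ g le_sup_right hg).mono le_sup_left).congr e

/-- Every component of `N_F(X)` lies over a subgroup of the support of `E(F)`. -/
def BalAt (F : FusionSystem S) (p : ℕ) (X : Subgroup Ω) : Prop :=
  ∀ (R : Subgroup Ω) (N : FusionSystem R), F.IsKNormSys X ⊤ N →
    ∀ (W : Subgroup Ω) (C : FusionSystem W), C.IsComponentIn N p →
      ∀ (T : Subgroup Ω) (E : FusionSystem T), E.IsLayerOf F p → W ≤ T

theorem BalAt.layer_sub (h : BalAt F p X) (hS : IsPGroup p S) (hX : F.IsFullyNormalized X)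
    (hN : F.IsKNormSys X ⊤ N) (hD : D.IsLayerOf N p) (hE : E.IsLayerOf F p) :
    D.IsSubsystemOf E := by
  have := hN.finite
  obtain ⟨M, hM, hME⟩ := exists_local_normal hS hE.1 hX hN
  exact (IsLayerOf.le_of (hN.isPGroup hS) hD hM fun W C hC =>
    le_inf (h _ N hN W C hC _ E hE) (subnormal_sub hC.1).le).trans hME

theorem BalAt.of_isIso {X' : Subgroup Ω} (h : BalAt F p X') (hX : F.IsFullyNormalized X)
    (hg : F.IsMor (normalizerIn S X) g) (hi : F.IsIso X X' g) : BalAt F p X := by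
  intro R N hN W C hC T E hE
  obtain rfl := hN.top_eq
  have := hN.finite
  obtain ⟨N', hN'⟩ := exists_isKNormSys F hi.le_right ⊤ kNormalizerIn_top.symm
  obtain ⟨g', hv⟩ := norm_isoVia hN hN' (hX.isIso_normalizerIn hi hg) hi
  have hW := (subnormal_sub hC.1).le
  obtain ⟨C', hC'⟩ := hv.exists_sub hW C
  exact fun x hx => ((Inv.sc hE.1.1.2.2).map_mem_iff hg (hW hx)).1
    (h _ N' hN' _ C' (IsoVia.isComponentIn hv hC' hC) T E hE (mem_img_of_mem g hx))

theorem balAt_step (hF : F.IsSaturated p) (hS : IsPGroup p S)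
    (hD : D.IsGeneralizedFittingOf F p) (hX : F.IsFullyNormalized X)
    (hY : F.IsFullyNormalized (X ⊔ U ⊓ normalizerIn S X))
    (ih₁ : ∀ (T : Subgroup Ω) (G : FusionSystem T), G.IsSubsystemOf F → ¬ F.IsSubsystemOf G →
      G.IsSaturated p → ∀ X, G.IsFullyNormalized X → BalAt G p X)
    (ih₂ : ∀ Y, F.IsFullyNormalized Y → Nat.card X < Nat.card Y → BalAt F p Y) :
    BalAt F p X := by
  intro R N hN W C hC T E hE
  obtain rfl := hN.top_eq
  have := hN.finite
  have hR := hN.isPGroup hS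
  have hNF := hN.isSubsystemOf
  have hDF := IsGenFit.isNormalIn hS hD
  have hU := Inv.sc hDF.1.2.2
  obtain ⟨M, hM, hMD⟩ := exists_local_normal hS hDF hX hN
  have hNs := hM.1.2.1
  have hV := Inv.sc hM.1.2.2
  have hXN := hN.isNormal_top hX.le
  obtain ⟨K, hK⟩ := exists_isCentSys hNs hR hM
  rcases dichotomy hR hC hM hK with hCM | hCK
  · rw [← hC.2.2.1]
    exact (hyp_mono ((subnormal_sub hCM.1).trans hMD)).trans (IsGenFit.hyp_le hS hD hE)
  have htc : ¬ TC F U (U ⊓ normalizerIn S X) := fun h =>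
    not_isCentMor_of_tc hS hDF (IsGenFit.CE_le hS hD) hNF h hC.2 fun P f hf =>
      hK.isCentMor hNs hR hV ((subnormal_sub hCK.1).isMor hf)
  have hlt : Nat.card X < Nat.card (X ⊔ U ⊓ normalizerIn S X : Subgroup Ω) := by
    have := finite_of_le hY.le
    refine card_lt_of_lt (lt_of_le_of_ne le_sup_left fun e => htc ?_)
    have h1 : U ≤ X := le_of_normalizerIn_le hS hX.le hU.le (hX.le.trans hU.le_normalizer)
      fun a ha => e.ge (Subgroup.mem_sup_right ⟨ha.1, hU.le ha.1, ha.2⟩)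
    rw [inf_eq_left.2 (h1.trans (FusionSystem.le_normalizerIn hX.le))]
    exact tc_top hU
  obtain ⟨G, hG⟩ := exists_isKNormSys F hY.le ⊤ kNormalizerIn_top.symm
  have hYN := hNs.stronglyClosed_sup hR hV hXN.stronglyClosed
  have hRY : normalizerIn S X ≤ normalizerIn S (X ⊔ U ⊓ normalizerIn S X) :=
    le_inf normalizerIn_le hYN.le_normalizer
  by_cases hFG : F.IsSubsystemOf G
  · have hXU : X ≤ U := le_sup_left.trans
      (((hG.isNormal_iff hY.le).2 hFG).le_core.trans (IsGenFit.core_le hD))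
    have hXV : X ≤ U ⊓ normalizerIn S X := le_inf hXU (FusionSystem.le_normalizerIn hX.le)
    rw [sup_eq_right.2 hXV] at hY
    exact absurd (tc_of_receptive hU inf_le_left (hF.isReceptive hS hY) fun a ha =>
      ⟨ha.1, centralizerIn_le_normalizerIn ⟨hU.le ha.1, fun x hx => ha.2 x (hXV hx)⟩⟩) htc
  have := hG.finite
  have hGF := hG.isSubsystemOf
  have hGs := hG.isSaturated hF hS (hF.isFullyKNormalized_of_le hS hY le_top)
  have hGp := hG.isPGroup hS
  have e : normalizerIn (normalizerIn S (X ⊔ U ⊓ normalizerIn S X)) X = normalizerIn S X :=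
    le_antisymm (normalizerIn_mono_left normalizerIn_le) (le_inf hRY normalizerIn_le_normalizer)
  have hXG : G.IsFullyNormalized X := ⟨hXN.le.trans hRY, fun Q hQ => by
    have := finite_of_le (normalizerIn_le : normalizerIn S Q ≤ S)
    rw [e]
    exact (Subgroup.card_le_of_le (normalizerIn_mono_left normalizerIn_le)).trans
      (hX.2 Q (hGF.isConj hQ))⟩
  obtain ⟨L, hL⟩ := exists_isKNormSys G hXG.le ⊤ (e.symm.trans kNormalizerIn_top.symm)
  have hCL := isComponentIn_of_cent hR hXN hM hK hCK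
    (hL.isSaturated hGs hGp (hGs.isFullyKNormalized_of_le hGp hXG le_top)) (hL.mono hN hGF le_rfl)
    fun P g hP hg => by
      have h1 : G.IsMor P g := hG.top_isMor_of_isIso (hNF.isMor hg) hP le_rfl (hg.le.trans hRY)
        (hNF.isIso (hYN.isIso_self (hg.mono hP)))
      have h2 := hXN.stronglyClosed.isIso_self (hg.mono (le_sup_left.trans hP))
      exact hL.top_isMor_of_isIso h1 (le_sup_left.trans hP) le_rfl hg.le
        ⟨h1.mono (le_sup_left.trans hP), h2.mapsTo, h2.surj⟩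
  obtain ⟨T', E', hE'⟩ := exists_isLayerOf hGs hGp
  exact (ih₁ _ G hGF hFG hGs X hXG _ L hL W C hCL T' E' hE').trans
    ((ih₂ _ hY hlt).layer_sub hS hY hG hE' hE).le

theorem balAt (hF : F.IsSaturated p) (hS : IsPGroup p S) (hX : F.IsFullyNormalized X) :
    BalAt F p X := by
  refine sys_induction (M := fun {S} F => IsPGroup p S → F.IsSaturated p →
    ∀ X, F.IsFullyNormalized X → BalAt F p X) (fun {S} _ F ih hS hF => ?_) F hS hF X hX
  suffices H : ∀ X, X ≤ S → F.IsFullyNormalized X → BalAt F p X from fun X hX => H X hX.le hX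
  refine card_induction_down fun X _ ih₂ hX => ?_
  obtain ⟨U, D, hD⟩ := exists_isGeneralizedFittingOf hF hS
  have hU := Inv.sc (IsGenFit.isNormalIn hS hD).1.2.2
  obtain ⟨Y', χ, hY', hχ, hi⟩ := hF.exists_isFullyNormalized hS (P := X ⊔ normalizerIn S X ⊓ U)
    (sup_le hX.le (inf_le_right.trans hU.le))
  have hRY : normalizerIn S X ≤ normalizerIn S (X ⊔ normalizerIn S X ⊓ U) := fun a ha =>
    ⟨ha.1, Subgroup.normalizer_inf_normalizer_le_normalizer_sup _ _ ⟨ha.2,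
      mem_normalizer_inf (Subgroup.le_normalizer ha) (hU.le_normalizer ha.1)⟩⟩
  have hχ' := hχ.mono hRY
  have hiX := hχ'.isIso_img_of_le (FusionSystem.le_normalizerIn hX.le)
  have hX' := hX.of_isIso hiX hχ'
  rw [hi.unique (IsIso.sup hi.mor hiX (hU.isIso_inf (hX.isIso_normalizerIn hiX hχ'))),
    inf_comm] at hY'
  exact (balAt_step hF hS hD hX' hY' (fun T G h1 h2 h3 => ih G h1 h2 (hS.to_le h1.le) h3)
    fun Y hY hlt => ih₂ Y hY.le (hiX.card_eq ▸ hlt) hY).of_isIso hX hχ' hiX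

/-- **E-balance.** -/
theorem layer_balance (hF : F.IsSaturated p) (hS : IsPGroup p S) (hX : F.IsFullyNormalized X)
    (hN : F.IsKNormSys X ⊤ N) (hD : D.IsLayerOf N p) (hE : E.IsLayerOf F p) :
    D.IsSubsystemOf E :=
  (balAt hF hS hX).layer_sub hS hX hN hD hE

end Cfsg.Agent.Lead
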