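import Cfsg.Agent.Lib.H4.KGV

/-!
# Knörr's criterion for `k(GV) ≤ |V|`
-/

set_option autoImplicit false

open scoped ComplexConjugate
open Cfsg Cfsg.Agent.H3 Cfsg.Agent.H4

namespace Cfsg.Agent.Lead

/-- Nonzero algebraic integers have average square norm at least one. -/
theorem card_le_of_forall_ringEquiv {ι : Type*} [Fintype ι] (a : ι → ℂ)
    (hint : ∀ i, IsIntegral ℤ (a i)) (h0 : ∀ i, a i ≠ 0) {B : ℝ}
    (h : ∀ σ : ℂ ≃+* ℂ, ∑ i, ‖σ (a i)‖ ^ 2 ≤ B) : (Fintype.card ι : ℝ) ≤ B := by
  classical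
  have hfin : (Set.range fun (σ : ℂ ≃+* ℂ) (i : ι) => σ (a i)).Finite := by
    refine (Set.Finite.pi' fun i => (minpoly ℤ (a i)).rootSet_finite ℂ).subset ?_
    rintro _ ⟨σ, rfl⟩ i
    refine (minpoly.monic (hint i)).mem_rootSet.2 ?_
    show Polynomial.aeval (σ.toRingHom.toIntAlgHom (a i)) _ = 0
    rw [Polynomial.aeval_algHom_apply, minpoly.aeval, map_zero]
  set T := hfin.toFinset
  have hT : ∀ t, t ∈ T ↔ ∃ σ : ℂ ≃+* ℂ, (fun i => σ (a i)) = t := fun t => hfin.mem_toFinset
  have hi : ∀ t ∈ T, ∀ i, IsIntegral ℤ (t i) ∧ t i ≠ 0 := fun t ht i => by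
    obtain ⟨σ, rfl⟩ := (hT t).1 ht
    exact ⟨(hint i).map σ.toRingHom.toIntAlgHom, (map_ne_zero σ).2 (h0 i)⟩
  have hI : IsIntegral ℤ (∏ t ∈ T, ∏ i, t i) :=
    IsIntegral.prod _ fun t ht => IsIntegral.prod _ fun i _ => (hi t ht i).1
  obtain ⟨q, hq⟩ := exists_rat_of_forall_ringEquiv hI.tower_top (fun τ => by
    simp only [map_prod]
    refine Finset.prod_bij' (fun t _ i => τ (t i)) (fun t _ i => τ.symm (t i)) (fun t ht => ?_)
      (fun t ht => ?_) (fun t _ => by simp) (fun t _ => by simp) fun t _ => rfl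
    · obtain ⟨σ, rfl⟩ := (hT t).1 ht
      exact (hT _).2 ⟨σ.trans τ, rfl⟩
    · obtain ⟨σ, rfl⟩ := (hT t).1 ht
      exact (hT _).2 ⟨σ.trans τ.symm, rfl⟩)
  obtain ⟨z, rfl⟩ := exists_int_of_isIntegral_rat (hq ▸ hI)
  have hz : z ≠ 0 := by
    rintro rfl
    simp only [Int.cast_zero, Rat.cast_zero, Finset.prod_eq_zero_iff] at hq
    obtain ⟨t, ht, i, -, h⟩ := hq
    exact (hi t ht i).2 h
  have h1 : 1 ≤ ∏ t ∈ T, ∏ i, ‖t i‖ ^ 2 := by
    simp only [Finset.prod_pow, ← norm_prod]
    rw [hq, Rat.cast_intCast, Complex.norm_intCast]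
    exact one_le_pow₀ (by exact_mod_cast Int.one_le_abs hz)
  have hpos : ∀ t ∈ T, ∀ i, 0 < ‖t i‖ ^ 2 := fun t ht i => pow_pos (norm_pos_iff.2 (hi t ht i).2) _
  have h2 : 0 ≤ ∑ t ∈ T, ∑ i, Real.log (‖t i‖ ^ 2) := by
    have := Real.log_nonneg h1
    rwa [Real.log_prod fun t ht => (Finset.prod_pos fun i _ => hpos t ht i).ne',
      Finset.sum_congr rfl fun t ht => Real.log_prod fun i _ => (hpos t ht i).ne'] at this
  have h3 : ∑ t ∈ T, ∑ i, Real.log (‖t i‖ ^ 2) ≤ ∑ t ∈ T, (B - Fintype.card ι) :=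
    Finset.sum_le_sum fun t ht => by
      refine (Finset.sum_le_sum fun i _ => Real.log_le_sub_one_of_pos (hpos t ht i)).trans ?_
      obtain ⟨σ, rfl⟩ := (hT t).1 ht
      rw [Finset.sum_sub_distrib]
      simpa using h σ
  have h4 : 0 < (T.card : ℝ) := by
    exact_mod_cast Finset.card_pos.2 ⟨_, (hT _).2 ⟨RingEquiv.refl ℂ, rfl⟩⟩
  rw [Finset.sum_const, nsmul_eq_mul] at h3
  linarith [nonneg_of_mul_nonneg_right (h2.trans h3) h4]

/-- The complex numbers on which all automorphisms commute with complex conjugation. -/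
def cmField : Subfield ℂ where
  carrier := {z | ∀ σ : ℂ ≃+* ℂ, σ (conj z) = conj (σ z)}
  mul_mem' ha hb σ := by simp only [map_mul, ha σ, hb σ]
  one_mem' σ := by simp
  add_mem' ha hb σ := by simp only [map_add, ha σ, hb σ]
  zero_mem' σ := by simp
  neg_mem' ha σ := by simp only [map_neg, ha σ]
  inv_mem' _ ha σ := by simp only [map_inv₀, ha σ]

theorem mem_cmField_of_pow {z : ℂ} {n : ℕ} (hn : n ≠ 0) (h : z ^ n = 1) : z ∈ cmField := fun σ => by
  rw [← Complex.inv_eq_conj (Complex.norm_eq_one_of_pow_eq_one h hn), map_inv₀,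
    Complex.inv_eq_conj (Complex.norm_eq_one_of_pow_eq_one (n := n)
      (by rw [← map_pow, h, map_one]) hn)]

theorem char_mem_cmField {G : Type*} [Group G] [Finite G] {a : G → ℂ} (ha : IsCharacter G a)
    (g : G) : a g ∈ cmField := fun σ => by
  rw [← IsCharacter_apply_inv ha]
  exact IsCharacter_apply_inv (IsCharacter_map σ.toRingHom ha) g

theorem norm_sq_map_of_mem_cmField {z : ℂ} (hz : z ∈ cmField) {d : ℕ} (h : z * conj z = d)
    (σ : ℂ ≃+* ℂ) : ‖σ z‖ ^ 2 = d := by
  have := congrArg σ h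
  rw [map_mul, hz σ, map_natCast, Complex.mul_conj, Complex.normSq_eq_norm_sq] at this
  exact_mod_cast this

/-- Combinations of characters with algebraic integer coefficients. -/
noncomputable def intChars (G : Type*) [Group G] : Subalgebra AlgInt (G → ℂ) :=
  Algebra.adjoin AlgInt {χ | IsCharacter G χ}

variable {G : Type*} [Group G]

theorem char_mem_intChars {a : G → ℂ} (ha : IsCharacter G a) : a ∈ intChars G :=
  Algebra.subset_adjoin ha

theorem smul_mem_intChars {c : ℂ} (hc : IsIntegral ℤ c) {a : G → ℂ} (ha : a ∈ intChars G) :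
    c • a ∈ intChars G :=
  (intChars G).smul_mem ha (⟨c, hc⟩ : AlgInt)

theorem const_mem_intChars {c : ℂ} (hc : IsIntegral ℤ c) : (fun _ => c) ∈ intChars G :=
  (intChars G).algebraMap_mem (⟨c, hc⟩ : AlgInt)

theorem intChars_induction {P : (G → ℂ) → Prop} (h0 : P 0)
    (h1 : ∀ (c : ℂ) (a : G → ℂ), IsIntegral ℤ c → IsCharacter G a → P (c • a))
    (hadd : ∀ a b, P a → P b → P (a + b)) {a : G → ℂ} (ha : a ∈ intChars G) : P a := by
  have h : a ∈ Submodule.span AlgInt {χ | IsCharacter G χ} := by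
    have e : (Submonoid.closure {χ | IsCharacter G χ} : Set (G → ℂ)) = {χ | IsCharacter G χ} :=
      congrArg SetLike.coe (Submonoid.closure_eq
        { carrier := {χ | IsCharacter G χ}
          mul_mem' := IsCharacter_mul
          one_mem' := isCharacter_one })
    rw [← e, ← Algebra.adjoin_eq_span]
    exact ha
  suffices ∀ c : ℂ, IsIntegral ℤ c → P (c • a) by simpa using this 1 isIntegral_one
  clear ha
  induction h using Submodule.span_induction with
  | mem x hx => exact fun c hc => h1 c x hc hx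
  | zero => exact fun c _ => by simpa using h0
  | add x y _ _ hx hy => exact fun c hc => smul_add c x y ▸ hadd _ _ (hx c hc) (hy c hc)
  | smul d x _ hx =>
    intro c hc
    have := hx (c * d) (hc.mul d.2)
    rwa [mul_smul] at this

theorem intChars_isClassFunction {a : G → ℂ} (ha : a ∈ intChars G) : IsClassFunction G a :=
  intChars_induction (IsClassFunction_const 0)
    (fun c _ _ h => IsClassFunction_smul c (IsCharacter_isClassFunction h))
    (fun _ _ => IsClassFunction_add) ha

theorem intChars_isIntegral [Finite G] {a : G → ℂ} (ha : a ∈ intChars G) (g : G) :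
    IsIntegral ℤ (a g) :=
  intChars_induction (P := fun a => IsIntegral ℤ (a g)) isIntegral_zero
    (fun _ _ hc h => hc.mul (IsCharacter_isIntegral h g)) (fun _ _ => IsIntegral.add) ha

theorem intChars_classInner [Fintype G] {a b : G → ℂ} (ha : a ∈ intChars G)
    (hb : IsCharacter G b) : IsIntegral ℤ (classInner a b) := by
  refine intChars_induction (P := fun a => IsIntegral ℤ (classInner a b)) ?_ (fun c a hc h => ?_)
    (fun a a' h h' => ?_) ha
  · rw [H3.classInner_zero_left]; exact isIntegral_zero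
  · obtain ⟨n, hn⟩ := IsCharacter_classInner h hb
    rw [H3.classInner_smul_left, hn]
    exact hc.mul (isIntegral_natCast' n)
  · rw [H3.classInner_add_left]; exact h.add h'

theorem mem_intChars_of [Fintype G] {a : G → ℂ} (ha : IsClassFunction G a)
    (h : ∀ χ : IrrCharacter G, IsIntegral ℤ (classInner a χ)) : a ∈ intChars G := by
  rw [IsClassFunction_eq_sum ha]
  exact Subalgebra.sum_mem _ fun χ _ =>
    smul_mem_intChars (h χ) (char_mem_intChars (IsIrrCharacter_isCharacter χ.2))

theorem comp_mem_intChars {H : Type*} [Group H] (f : H →* G) {a : G → ℂ} (ha : a ∈ intChars G) :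
    (fun h => a (f h)) ∈ intChars H :=
  intChars_induction (P := fun a => (fun h => a (f h)) ∈ intChars H) (intChars H).zero_mem
    (fun _ _ hc h => smul_mem_intChars hc (char_mem_intChars (IsCharacter_comp f h)))
    (fun _ _ => (intChars H).add_mem) ha

theorem mul_center_mem_intChars [Finite G] {a : G → ℂ} (ha : IsCharacter G a) {z : G}
    (hz : z ∈ Subgroup.center G) : (fun g => a (z * g)) ∈ intChars G := by
  refine char_induction (P := fun a => (fun g => a (z * g)) ∈ intChars G) (intChars G).zero_mem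
    (fun χ hχ => ?_) (fun _ _ _ _ => (intChars G).add_mem) ha
  have hc := IsIrrCharacter_isCharacter hχ
  obtain ⟨lam, hlam⟩ := charCenter_exists_linear hc (IsIrrCharacter_apply_one_ne_zero hχ)
  let w : charCenter hc := ⟨z, IsIrrCharacter_norm_eq_of_mem_center hχ hz⟩
  convert smul_mem_intChars (IsCharacter_isIntegral
    (IsIrrCharacter_isCharacter (isIrrCharacter_linear lam)) w) (char_mem_intChars hc) using 1
  exact funext fun g => hlam w g

/-- Division in `intChars` by a function whose values have `p`-power norm. -/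
theorem mem_intChars_of_mul [Finite G] {p : ℕ} (hp : p.Coprime (Nat.card G)) {ξ ψ : G → ℂ}
    (hξ : ξ ∈ intChars G) (hn : ∀ g, ∃ c : ℕ, ξ g * conj (ξ g) = p ^ c) (hp0 : p ≠ 0)
    (hint : ∀ g, IsIntegral ℤ (ψ g)) {κ : ℂ} (hκ : IsIntegral ℤ κ) (h : ∀ g, ψ g * ξ g = κ) :
    ψ ∈ intChars G := by
  classical
  have := Fintype.ofFinite G
  choose c hc using hn
  have h0 : ∀ g, ξ g ≠ 0 := fun g e => by
    have := hc g
    rw [e, zero_mul] at this
    exact pow_ne_zero _ (Nat.cast_ne_zero.2 hp0) this.symm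
  have key : ∀ s : Finset G, ∃ Q ∈ intChars G, ∀ g,
      ∏ h ∈ s, (ξ h - ξ g) = ∏ h ∈ s, ξ h + ξ g * Q g := by
    intro s
    induction s using Finset.induction_on with
    | empty => exact ⟨0, (intChars G).zero_mem, by simp⟩
    | insert x s hx ih =>
      obtain ⟨Q, hQ, e⟩ := ih
      refine ⟨ξ x • Q - (fun _ => ∏ h ∈ s, ξ h) - ξ * Q, sub_mem (sub_mem
        (smul_mem_intChars (intChars_isIntegral hξ x) hQ) (const_mem_intChars
          (IsIntegral.prod _ fun h _ => intChars_isIntegral hξ h))) (mul_mem hξ hQ), fun g => ?_⟩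
      rw [Finset.prod_insert hx, Finset.prod_insert hx, e]
      simp only [Pi.sub_apply, Pi.smul_apply, Pi.mul_apply, smul_eq_mul]
      ring
  obtain ⟨Q, hQ, e⟩ := key Finset.univ
  have hI : IsIntegral ℤ (∏ h, ξ h) := IsIntegral.prod _ fun h _ => intChars_isIntegral hξ h
  have e1 : ((p : ℂ) ^ ∑ h, c h) • ψ = (-(κ * conj (∏ h, ξ h))) • Q := funext fun g => by
    have h1 := e g
    rw [Finset.prod_eq_zero (Finset.mem_univ g) (sub_self _)] at h1
    have h2 : (p : ℂ) ^ ∑ h, c h = (∏ h, ξ h) * conj (∏ h, ξ h) := by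
      rw [map_prod, ← Finset.prod_mul_distrib, ← Finset.prod_pow_eq_pow_sum]
      exact Finset.prod_congr rfl fun h _ => (hc h).symm
    simp only [Pi.smul_apply, smul_eq_mul]
    rw [h2, ← h g]
    linear_combination (-(ψ g * conj (∏ h, ξ h))) * h1
  have hcl : IsClassFunction G ψ := fun g k => mul_right_cancel₀ (h0 g) (by
    rw [h g, ← intChars_isClassFunction hξ g k, h])
  refine mem_intChars_of hcl fun χ => ?_
  have h1 : IsIntegral ℤ ((p : ℂ) ^ (∑ h, c h) * classInner ψ χ) := by
    rw [← H3.classInner_smul_left, e1]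
    exact intChars_classInner (smul_mem_intChars (hκ.mul (isIntegral_conj hI)).neg hQ)
      (IsIrrCharacter_isCharacter χ.2)
  have h2 : IsIntegral ℤ ((Nat.card G : ℂ) * classInner ψ χ) := by
    rw [classInner, mul_inv_cancel_left₀ (card_ne_zero_complex G)]
    exact IsIntegral.sum _ fun g _ => (hint g).mul
      (isIntegral_conj (IsCharacter_isIntegral (IsIrrCharacter_isCharacter χ.2) g))
  obtain ⟨u, w, huw⟩ := Nat.isCoprime_iff_coprime.2 (hp.pow_left (∑ h, c h))
  have h3 : (u : ℂ) * (p : ℂ) ^ (∑ h, c h) + w * Nat.card G = 1 := by exact_mod_cast huw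
  have h4 : classInner ψ χ = u * ((p : ℂ) ^ (∑ h, c h) * classInner ψ χ) +
      w * (Nat.card G * classInner ψ χ) := by linear_combination (-classInner ψ χ) * h3
  rw [h4]
  exact ((isIntegral_intCast' u).mul h1).add ((isIntegral_intCast' w).mul h2)

variable {X : Type*} [Group X] [Finite X]

theorem card_centralizer_mul_le {V G : Subgroup X} [V.Normal] (hGV : Subgroup.IsComplement' V G)
    (hab : ∀ a ∈ V, ∀ b ∈ V, a * b = b * a) (hcop : (Nat.card V).Coprime (Nat.card G)) {v : X}
    (hv : v ∈ V) (h : (G ⊓ Subgroup.centralizer ({v} : Set X) : Subgroup X)) :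
    Nat.card (Subgroup.centralizer ({v * h} : Set X)) ≤
      Nat.card (Subgroup.centralizer ({h} : Set (G ⊓ Subgroup.centralizer ({v} : Set X) :
        Subgroup X))) * Nat.card (V ⊓ Subgroup.centralizer ({(h : X)} : Set X) : Subgroup X) := by
  rw [← Nat.card_prod]
  refine le_trans (Nat.card_mono (Set.toFinite _) (fun x hx => ?_))
    (Finite.card_range_le fun t : Subgroup.centralizer ({h} : Set (G ⊓ Subgroup.centralizer
      ({v} : Set X) : Subgroup X)) × (V ⊓ Subgroup.centralizer ({(h : X)} : Set X) : Subgroup X) =>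
        (t.2 : X) * t.1)
  have hc : Commute v h := (Subgroup.mem_centralizer_singleton_iff.1 h.2.2).symm
  have hx' : Commute x (v * h) := Subgroup.mem_centralizer_singleton_iff.1 hx
  have hxv : Commute x v := by
    obtain ⟨m, hm⟩ := exists_pow_eq_self_of_coprime (x := v) (n := Nat.card G)
      (hcop.symm.coprime_dvd_right (V.orderOf_dvd_natCard hv))
    have := (hx'.pow_right (Nat.card G)).pow_right m
    rwa [hc.mul_pow, show (h : X) ^ Nat.card G = 1 from
      congrArg Subtype.val (pow_card_eq_one' (x := (⟨h, h.2.1⟩ : G))), mul_one, hm] at this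
  have hxh : Commute x h := by simpa using hxv.inv_right.mul_right hx'
  obtain ⟨⟨⟨u, hu⟩, ⟨g, hg⟩⟩, rfl⟩ := hGV.2 x
  have huv : Commute u v := hab u hu v hv
  have hgv : Commute g v := by simpa using huv.inv_left.mul_left hxv
  have hgh : Commute g h := by
    have h1 : g * h * g⁻¹ * (h : X)⁻¹ ∈ V ⊓ G := ⟨by
      have : g * h * g⁻¹ * (h : X)⁻¹ = u⁻¹ * (h * u * (h : X)⁻¹) := by
        have := hxh.eq
        simp only at this
        calc g * h * g⁻¹ * (h : X)⁻¹ = u⁻¹ * (u * g * h) * g⁻¹ * (h : X)⁻¹ := by group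
          _ = _ := by rw [this]; group
      rw [this]
      exact V.mul_mem (V.inv_mem hu) (Subgroup.Normal.conj_mem inferInstance u hu h),
      G.mul_mem (G.mul_mem (G.mul_mem hg h.2.1) (G.inv_mem hg)) (G.inv_mem h.2.1)⟩
    rw [hGV.disjoint.eq_bot, Subgroup.mem_bot] at h1
    exact commutatorElement_eq_one_iff_commute.1 h1
  have huh : Commute u h := by simpa using hxh.mul_left hgh.inv_left
  exact ⟨(⟨⟨g, hg, Subgroup.mem_centralizer_singleton_iff.2 hgv⟩,
    Subgroup.mem_centralizer_singleton_iff.2 (Subtype.ext hgh)⟩,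
    ⟨u, hu, Subgroup.mem_centralizer_singleton_iff.2 huh⟩), rfl⟩

theorem sum_norm_classInner_sq {H : Type*} [Group H] [Fintype H] {a : H → ℂ}
    (ha : IsClassFunction H a) :
    ∑ φ : IrrCharacter H, ‖classInner a φ‖ ^ 2 = (Nat.card H : ℝ)⁻¹ * ∑ g, ‖a g‖ ^ 2 := by
  have := classInner_eq_sum_irr ha a
  rw [H3.classInner_self_eq] at this
  simp only [← H3.conj_classInner a, Complex.mul_conj, Complex.normSq_eq_norm_sq] at this
  exact_mod_cast this.symm

/-- **Knörr's criterion.** -/
theorem knorr_criterion {p : ℕ} [hp : Fact p.Prime] {V G : Subgroup X} [V.Normal]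
    (hVp : IsPGroup p V) (hidx : ¬ p ∣ V.index) (hab : ∀ a ∈ V, ∀ b ∈ V, a * b = b * a)
    (hGV : Subgroup.IsComplement' V G) {v : X} (hv : v ∈ V) {M : Ideal AlgInt} [M.IsPrime]
    (hpM : (p : AlgInt) ∈ M) {H : Subgroup X} (hH : H = G ⊓ Subgroup.centralizer ({v} : Set X))
    {ψ : H → ℂ} (hψ : ψ ∈ intChars H) (h1 : ψ 1 ∉ idealSet M) (h2 : ∀ h, h ≠ 1 → ψ h ∈ idealSet M)
    (h3 : ∀ h, ψ h ∈ cmField) (h4 : ∀ h, ∃ d : ℕ, ψ h * conj (ψ h) = d ∧
      d * Nat.card (V ⊓ Subgroup.centralizer ({(h : X)} : Set X) : Subgroup X) ≤ Nat.card V) :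
    Nat.card (ConjClasses X) ≤ Nat.card V := by
  classical
  have := Fintype.ofFinite H
  have hG : ¬ p ∣ Nat.card G := by rwa [← hGV.symm.index_eq_card]
  have hcop : (Nat.card V).Coprime (Nat.card G) := by
    obtain ⟨k, hk⟩ := hVp.exists_card_eq
    rw [hk]
    exact (hp.out.coprime_iff_not_dvd.2 hG).pow_left k
  have hsh : ∀ χ : IrrCharacter X, (fun h : H => (χ : X → ℂ) (v * h)) ∈ intChars H := fun χ =>
    comp_mem_intChars (Subgroup.inclusion (hH.le.trans inf_le_right)) (mul_center_mem_intChars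
      (IsCharacter_restrict (Subgroup.centralizer ({v} : Set X)) (IsIrrCharacter_isCharacter χ.2))
      (z := ⟨v, Subgroup.mem_centralizer_singleton_iff.2 rfl⟩)
      (Subgroup.mem_center_iff.2 fun g => Subtype.ext
        (Subgroup.mem_centralizer_singleton_iff.1 g.2)))
  have key := card_le_of_forall_ringEquiv
    (fun t : IrrCharacter X × IrrCharacter H =>
      classInner (ψ * fun h : H => (t.1 : X → ℂ) (v * h)) t.2)
    (fun t => intChars_classInner (mul_mem hψ (hsh t.1)) (IsIrrCharacter_isCharacter t.2.2))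
    (fun ⟨χ, φ⟩ h0 => ?_) (B := Nat.card V * Nat.card (ConjClasses H)) fun σ => ?_
  · rw [Fintype.card_prod, Fintype.card_eq_nat_card, Fintype.card_eq_nat_card,
      card_irr_eq_card_conjClasses, card_irr_eq_card_conjClasses] at key
    exact Nat.le_of_mul_le_mul_right (by exact_mod_cast key) Nat.card_pos
  · have hχ := IsIrrCharacter_isCharacter χ.2
    have hφ := IsIrrCharacter_isCharacter φ.2
    simp only [classInner, mul_eq_zero, inv_eq_zero, card_ne_zero_complex, false_or] at h0
    rw [← Finset.add_sum_erase _ _ (Finset.mem_univ 1), add_eq_zero_iff_eq_neg] at h0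
    have h5 : ψ 1 * (χ : X → ℂ) (v * (1 : H)) * conj ((φ : H → ℂ) 1) ∈ idealSet M := by
      rw [← Pi.mul_apply ψ fun h : H => (χ : X → ℂ) (v * h), h0]
      exact neg_mem (Submodule.sum_mem _ fun h hh => mul_mem_idealSet' (mul_mem_idealSet'
        (h2 h (Finset.ne_of_mem_erase hh)) (IsCharacter_isIntegral hχ _))
        (isIntegral_conj (IsCharacter_isIntegral hφ _)))
    rcases mem_or_mem_idealSet ((intChars_isIntegral hψ 1).mul (IsCharacter_isIntegral hχ _))
      (isIntegral_conj (IsCharacter_isIntegral hφ _)) h5 with h6 | h6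
    · refine (mem_or_mem_idealSet (intChars_isIntegral hψ 1) (IsCharacter_isIntegral hχ _)
        h6).elim h1 fun h7 => ?_
      obtain ⟨k, hk⟩ := hVp ⟨v, hv⟩
      have h8 := sub_mem h7 (IsCharacter_sub_mem_idealSet hp.out hpM hχ (Commute.one_left v)
        (congrArg Subtype.val hk))
      simp only [OneMemClass.coe_one, mul_one, one_mul, sub_sub_cancel] at h8
      rw [← irr_charDegree, natCast_mem_idealSet_iff hp.out hpM] at h8
      exact hidx (h8.trans (charDegree_dvd_index_abelian_normal χ.2 V hab))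
    · rw [irr_conj_apply_one, ← irr_charDegree, natCast_mem_idealSet_iff hp.out hpM] at h6
      exact hG (h6.trans ((IsIrrCharacter_charDegree_dvd φ.2).trans
        (Subgroup.card_dvd_of_le (hH.le.trans inf_le_left))))
  · have e1 : ∑ t : IrrCharacter X × IrrCharacter H,
        ‖σ (classInner (ψ * fun h : H => (t.1 : X → ℂ) (v * h)) t.2)‖ ^ 2 =
        ∑ t : IrrCharacter X × IrrCharacter H,
          ‖classInner (fun h : H => σ (ψ h) * (t.1 : X → ℂ) (v * h)) t.2‖ ^ 2 :=
      Fintype.sum_equiv ((galIrr σ).prodCongr (galIrr σ)) _ _ fun t => by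
        have := classInner_map σ.toRingHom (ψ * fun h : H => (t.1 : X → ℂ) (v * h))
          (IsIrrCharacter_isGeneralized t.2.2)
        simp only [RingEquiv.toRingHom_eq_coe, RingHom.coe_coe, Pi.mul_apply, map_mul] at this
        rw [← this]
        rfl
    have e4 : ∀ χ : IrrCharacter X, ∑ φ : IrrCharacter H,
        ‖classInner (fun h : H => σ (ψ h) * (χ : X → ℂ) (v * h)) φ‖ ^ 2 =
        (Nat.card H : ℝ)⁻¹ * ∑ h : H, ‖σ (ψ h) * (χ : X → ℂ) (v * h)‖ ^ 2 := fun χ =>
      sum_norm_classInner_sq fun g k => congrArg₂ (· * ·)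
        (congrArg σ (intChars_isClassFunction hψ g k)) (intChars_isClassFunction (hsh χ) g k)
    rw [e1, Fintype.sum_prod_type]
    simp only [e4]
    rw [← Finset.mul_sum, Finset.sum_comm, inv_mul_le_iff₀ (by exact_mod_cast Nat.card_pos)]
    have e2 := sum_card_centralizer H
    have e3 : (Nat.card H : ℝ) * (Nat.card V * Nat.card (ConjClasses H)) =
        ∑ h : H, (Nat.card V : ℝ) * Nat.card (Subgroup.centralizer ({h} : Set H)) := by
      rw [← Finset.mul_sum, ← Nat.cast_sum, e2, Nat.cast_mul]; ring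
    rw [e3]
    refine Finset.sum_le_sum fun h _ => ?_
    obtain ⟨d, hd, hd'⟩ := h4 h
    simp only [norm_mul, mul_pow, ← Finset.mul_sum, sum_norm_sq_column,
      norm_sq_map_of_mem_cmField (h3 h) hd σ]
    have h5 := Nat.mul_le_mul_right (Nat.card (Subgroup.centralizer ({h} : Set H))) hd'
    subst hH
    have := Nat.mul_le_mul_left d (card_centralizer_mul_le hGV hab hcop hv h)
    exact_mod_cast this.trans (by rw [mul_comm (Nat.card _), ← mul_assoc]; exact h5)

end Cfsg.Agent.Lead
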