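import Cfsg.Agent.Lib.Lead.Knorr
import Cfsg.Agent.Lib.H4.SelfDual

/-!
# Good functions for Knörr's criterion
-/

set_option autoImplicit false

open scoped ComplexConjugate
open Cfsg Cfsg.Agent.H3 Cfsg.Agent.H4

namespace Cfsg.Agent.Lead

universe u

section Good

variable {F : Type*} [Field F] {H : Type*} [Group H] {W : Type*} [AddCommGroup W] [Module F W]

/-- `ψ` is a function suitable for Knörr's criterion with respect to the module `W`. -/
def KGood (M : Ideal AlgInt) (ρ : Representation F H W) (ψ : H → ℂ) : Prop :=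
  ψ ∈ intChars H ∧ (∀ h, (∀ w, ρ h w = w) → ψ h ∉ idealSet M) ∧
    (∀ h, ¬ (∀ w, ρ h w = w) → ψ h ∈ idealSet M) ∧ (∀ h, ψ h ∈ cmField) ∧
    ∀ h, ∃ d : ℕ, ψ h * conj (ψ h) = d ∧ d * Nat.card {w // ρ h w = w} ≤ Nat.card W

theorem KGood.of_isCompl [Finite H] [Finite W] {M : Ideal AlgInt} [M.IsPrime]
    {ρ : Representation F H W}
    (U U' : Subrepresentation ρ) (hc : IsCompl U.toSubmodule U'.toSubmodule) {ψ ψ' : H → ℂ}
    (h1 : KGood M U.toRepresentation ψ) (h2 : KGood M U'.toRepresentation ψ') :
    KGood M ρ (ψ * ψ') := by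
  obtain ⟨a1, a2, a3, a4, a5⟩ := h1
  obtain ⟨b1, b2, b3, b4, b5⟩ := h2
  set e := Submodule.prodEquivOfIsCompl _ _ hc with he
  have hρ : ∀ h (x : U.toSubmodule × U'.toSubmodule),
      ρ h (e x) = e (U.toRepresentation h x.1, U'.toRepresentation h x.2) := fun h x => by
    simp [he, Subrepresentation.toRepresentation]
  refine ⟨mul_mem a1 b1, fun h hh hm => ?_, fun h hh => ?_, fun h => mul_mem (a4 h) (b4 h),
    fun h => ?_⟩
  · rcases mem_or_mem_idealSet (intChars_isIntegral a1 h) (intChars_isIntegral b1 h) hm with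
      hm | hm
    · exact a2 h (fun w => Subtype.ext (hh w)) hm
    · exact b2 h (fun w => Subtype.ext (hh w)) hm
  · by_cases hU : ∀ w, U.toRepresentation h w = w
    · by_cases hU' : ∀ w, U'.toRepresentation h w = w
      · refine absurd (fun w => ?_) hh
        obtain ⟨x, rfl⟩ := e.surjective w
        rw [hρ, hU, hU']
      · exact mul_mem_idealSet (intChars_isIntegral a1 h) (b3 h hU')
    · exact mul_mem_idealSet' (a3 h hU) (intChars_isIntegral b1 h)
  · obtain ⟨d, hd, hd'⟩ := a5 h
    obtain ⟨d', he1, he'⟩ := b5 h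
    refine ⟨d * d', ?_, ?_⟩
    · simp only [Pi.mul_apply, map_mul, Nat.cast_mul, ← hd, ← he1]; ring
    · have hW : Nat.card W = Nat.card U.toSubmodule * Nat.card U'.toSubmodule := by
        rw [← Nat.card_prod]; exact (Nat.card_congr e.toEquiv).symm
      have hfix : Nat.card {w // ρ h w = w} ≤ Nat.card {w // U.toRepresentation h w = w} *
          Nat.card {w // U'.toRepresentation h w = w} := by
        rw [← Nat.card_prod]
        have key : ∀ w : {w // ρ h w = w}, (U.toRepresentation h (e.symm w.1).1,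
            U'.toRepresentation h (e.symm w.1).2) = e.symm w.1 := fun w => by
          apply e.injective
          rw [← hρ, e.apply_symm_apply, w.2]
        refine Nat.card_le_card_of_injective (fun w => (⟨(e.symm w.1).1,
          congrArg Prod.fst (key w)⟩, ⟨(e.symm w.1).2, congrArg Prod.snd (key w)⟩)) ?_
        intro w w' hw
        simp only [Prod.mk.injEq, Subtype.mk.injEq] at hw
        exact Subtype.ext (e.symm.injective (Prod.ext hw.1 hw.2))
      calc d * d' * Nat.card {w // ρ h w = w}
          ≤ d * d' * (Nat.card {w // U.toRepresentation h w = w} *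
            Nat.card {w // U'.toRepresentation h w = w}) := Nat.mul_le_mul_left _ hfix
        _ = (d * Nat.card {w // U.toRepresentation h w = w}) *
            (d' * Nat.card {w // U'.toRepresentation h w = w}) := by ring
        _ ≤ _ := by rw [hW]; exact Nat.mul_le_mul hd' he'

theorem KGood.of_subsingleton [Subsingleton W] {M : Ideal AlgInt} [M.IsPrime]
    (ρ : Representation F H W) : KGood M ρ 1 := by
  refine ⟨one_mem _, fun _ _ => one_notMem_idealSet, fun h hh => ?_, fun _ => one_mem _,
    fun h => ⟨1, by simp, ?_⟩⟩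
  · exact absurd (fun w => Subsingleton.elim _ _) hh
  · have : Finite W := Finite.of_subsingleton
    rw [one_mul]; exact Nat.card_le_card_of_injective _ Subtype.val_injective

theorem exists_compl_subrep [Finite H] (hc : (Nat.card H : F) ≠ 0) (ρ : Representation F H W)
    (U : Subrepresentation ρ) : ∃ U' : Subrepresentation ρ, IsCompl U.toSubmodule U'.toSubmodule := by
  have : NeZero (Nat.card H : F) := ⟨hc⟩
  obtain ⟨U', hU⟩ := exists_isCompl U
  refine ⟨U', ?_, ?_⟩
  · rw [disjoint_iff, ← Subrepresentation.toSubmodule_inf, hU.inf_eq_bot]; rfl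
  · rw [codisjoint_iff, ← Subrepresentation.toSubmodule_sup, hU.sup_eq_top]; rfl

end Good

/-- Gauss sums give a good function on an irreducible module of an abelian group. -/
theorem exists_KGood_of_irreducible {p : ℕ} [hp : Fact p.Prime] {H : Type*} [CommGroup H]
    [Finite H] {W : Type u} [AddCommGroup W] [Module (ZMod p) W] [Finite W] [Nontrivial W]
    {M : Ideal AlgInt} [M.IsPrime] (hpM : (p : AlgInt) ∈ M) (ρ : Representation (ZMod p) H W)
    (hirr : ∀ U : Submodule (ZMod p) W, (∀ h : H, ∀ u ∈ U, ρ h u ∈ U) → U = ⊥ ∨ U = ⊤) :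
    ∃ ψ, KGood M ρ ψ := by
  classical
  obtain ⟨K, _, _, ι, e, he, -⟩ := exists_field_of_irreducible ρ hirr
  have : Finite K := Finite.of_equiv _ e.symm.toEquiv
  have := Fintype.ofFinite K
  have : CharP K p := (algebraMap (ZMod p) K).charP_iff_charP p |>.mp inferInstance
  obtain ⟨Φ⟩ := MulChar.mulEquiv_units K ℂ
  have hchar : ringChar ℂ ≠ ringChar K := by
    rw [ringChar.eq_zero, ringChar.eq K p]; exact hp.out.ne_zero.symm
  set a := AddChar.FiniteField.primitiveChar_to_Complex K
  have ha : a.IsPrimitive := AddChar.FiniteField.primitiveChar_to_Complex_isPrimitive K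
  have ha1 : a ≠ 1 := by simpa using ha (a := 1) one_ne_zero
  have hap : ∀ x, a x ^ p = 1 := fun x => by
    rw [← AddChar.map_nsmul_eq_pow, nsmul_eq_mul, CharP.cast_eq_zero, zero_mul, AddChar.map_zero_eq_one]
  set χ : H →* MulChar K ℂ := Φ.symm.toMonoidHom.comp ι.toHomUnits with hχ
  have hχ1 : ∀ h, χ h = 1 ↔ ∀ w, ρ h w = w := fun h => by
    have : χ h = 1 ↔ ι h = 1 := by
      simp [hχ, Units.ext_iff]
    rw [this]
    constructor
    · intro h1 w
      obtain ⟨k, rfl⟩ := e.surjective w
      rw [← he, h1, one_mul]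
    · intro h1
      apply e.injective
      rw [← mul_one (ι h), he, h1]
  have hint : ∀ h x, IsIntegral ℤ (χ h x) ∧ χ h x ∈ cmField := fun h x => by
    by_cases hx : x = 0
    · rw [hx, MulChar.map_zero]; exact ⟨isIntegral_zero, zero_mem _⟩
    · have h1 : χ h x ^ (Fintype.card K - 1) = 1 := by
        rw [← map_pow, FiniteField.pow_card_sub_one_eq_one x hx, map_one]
      have h2 : Fintype.card K - 1 ≠ 0 := by
        have := Fintype.one_lt_card (α := K); omega
      exact ⟨isIntegral_of_pow_eq_one h2 h1, mem_cmField_of_pow h2 h1⟩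
  refine ⟨fun h => gaussSum (χ h) a, ?_, fun h hh => ?_, fun h hh => ?_, fun h => ?_, fun h => ?_⟩
  · have : (fun h => gaussSum (χ h) a) = ∑ x : K, a x • fun h => χ h x := by
      ext h; simp [gaussSum, mul_comm]
    rw [this]
    refine sum_mem fun x _ => smul_mem_intChars
      (isIntegral_of_pow_eq_one hp.out.ne_zero (hap x)) ?_
    by_cases hx : x = 0
    · simp only [hx, MulChar.map_zero]; exact zero_mem _
    · let lam : H →* ℂˣ :=
        { toFun := fun h => (χ h).toUnitHom (Units.mk0 x hx)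
          map_one' := by ext; simp [MulChar.one_apply (Ne.isUnit hx)]
          map_mul' := fun g h => by ext; simp }
      have := IsIrrCharacter_isCharacter (isIrrCharacter_linear lam)
      refine char_mem_intChars ?_
      convert this using 2 with h
      simp [lam]
  · show gaussSum (χ h) a ∉ _
    rw [(hχ1 h).2 hh, gaussSum_one_left ha1]
    intro hm
    exact one_notMem_idealSet (by simpa using neg_mem hm)
  · have hne : χ h ≠ 1 := fun h1 => hh ((hχ1 h).1 h1)
    have : gaussSum (χ h) a = ∑ x : K, χ h x * (a x - 1) := by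
      simp only [mul_sub, mul_one, Finset.sum_sub_distrib, MulChar.sum_eq_zero_of_ne_one hne,
        sub_zero, gaussSum]
    show gaussSum (χ h) a ∈ _
    rw [this]
    exact sum_mem fun x _ => mul_mem_idealSet (hint h x).1
      (sub_one_mem_idealSet hp.out hpM (k := 1) (by simpa using hap x))
  · exact sum_mem fun x _ => mul_mem (hint h x).2 (mem_cmField_of_pow hp.out.ne_zero (hap x))
  · by_cases hh : ∀ w, ρ h w = w
    · refine ⟨1, ?_, ?_⟩
      · simp only [(hχ1 h).2 hh, gaussSum_one_left ha1]; simp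
      · rw [one_mul]; exact Nat.card_le_card_of_injective _ Subtype.val_injective
    · have hne : χ h ≠ 1 := fun h1 => hh ((hχ1 h).1 h1)
      refine ⟨Fintype.card K, ?_, ?_⟩
      · have := star_gaussSum_eq (χ h) a
        rw [← gaussSum_mul_gaussSum_eq_card hne ha, ← this]; rfl
      · have hs : Nat.card {w // ρ h w = w} = 1 := by
          have hι : ι h ≠ 1 := fun h1 => hh fun w => by
            obtain ⟨k, rfl⟩ := e.surjective w
            rw [← he, h1, one_mul]
          rw [Nat.card_eq_one_iff_exists]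
          refine ⟨⟨0, map_zero _⟩, fun w => Subtype.ext ?_⟩
          obtain ⟨w, hw⟩ := w
          obtain ⟨k, rfl⟩ := e.surjective w
          rw [← he] at hw
          have := e.injective hw
          have h0 : (ι h - 1) * k = 0 := by rw [sub_mul, this]; simp
          rcases mul_eq_zero.1 h0 with h0 | h0
          · exact absurd (sub_eq_zero.1 h0) hι
          · simp [h0]
        rw [hs, mul_one, ← Nat.card_eq_fintype_card, Nat.card_congr e.toEquiv]

theorem exists_KGood_of_comm {p : ℕ} [hp : Fact p.Prime] {H : Type*} [CommGroup H]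
    [Finite H] (hc : (Nat.card H : ZMod p) ≠ 0) {M : Ideal AlgInt} [M.IsPrime]
    (hpM : (p : AlgInt) ∈ M) (n : ℕ) : ∀ {W : Type u} [AddCommGroup W] [Module (ZMod p) W]
    [Finite W] (ρ : Representation (ZMod p) H W), Nat.card W = n → ∃ ψ, KGood M ρ ψ := by
  induction n using Nat.strong_induction_on with
  | _ n ih =>
  intro W _ _ _ ρ hn
  rcases subsingleton_or_nontrivial W with hW | hW
  · exact ⟨1, KGood.of_subsingleton ρ⟩
  by_cases hirr : ∀ U : Submodule (ZMod p) W, (∀ h : H, ∀ u ∈ U, ρ h u ∈ U) → U = ⊥ ∨ U = ⊤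
  · exact exists_KGood_of_irreducible hpM ρ hirr
  push Not at hirr
  obtain ⟨U, hU, hb, ht⟩ := hirr
  obtain ⟨U', hU'⟩ := exists_compl_subrep hc ρ ⟨U, fun g v hv => hU g v hv⟩
  have hlt : ∀ A : Submodule (ZMod p) W, A ≠ ⊤ → Nat.card A < n := fun A hA => by
    rw [← hn]
    obtain ⟨x, hx⟩ : ∃ x, x ∉ A := by
      by_contra h; push Not at h; exact hA (eq_top_iff.2 fun x _ => h x)
    exact Finite.card_subtype_lt (p := fun x => x ∈ A) hx
  have ht' : U'.toSubmodule ≠ ⊤ := fun h => hb (by
    have := hU'.inf_eq_bot; rwa [h, inf_top_eq] at this)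
  obtain ⟨ψ, hψ⟩ := ih _ (hlt U ht) (Subrepresentation.toRepresentation
    (ρ := ρ) ⟨U, fun g v hv => hU g v hv⟩) rfl
  obtain ⟨ψ', hψ'⟩ := ih _ (hlt _ ht') U'.toRepresentation rfl
  exact ⟨_, KGood.of_isCompl _ _ hU' hψ hψ'⟩

theorem exists_rep_of_addHom {p : ℕ} [Fact p.Prime] {H : Type*} [Group H] {W : Type*}
    [AddCommGroup W] [Module (ZMod p) W] (f : H → W →+ W) (h1 : ∀ a, f 1 a = a)
    (h2 : ∀ g h a, f (g * h) a = f g (f h a)) :
    ∃ ρ : Representation (ZMod p) H W, ∀ h w, ρ h w = f h w :=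
  ⟨{ toFun := fun h => (f h).toZModLinearMap p
     map_one' := LinearMap.ext h1
     map_mul' := fun a b => LinearMap.ext (h2 a b) }, fun _ _ => rfl⟩

theorem exists_rep_of_commGroup {p : ℕ} [Fact p.Prime] {H : Type*} [Group H] {A : Type u}
    [CommGroup A] (hexp : ∀ a : A, a ^ p = 1) (f : H → A →* A) (h1 : ∀ a, f 1 a = a)
    (h2 : ∀ g h a, f (g * h) a = f g (f h a)) :
    ∃ (W : Type u) (_ : AddCommGroup W) (_ : Module (ZMod p) W) (ρ : Representation (ZMod p) H W)
      (e : W ≃ A), (∀ a b, e (a + b) = e a * e b) ∧ ∀ (h : H) w, e (ρ h w) = f h (e w) := by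
  let _ : Module (ZMod p) (Additive A) := AddCommGroup.zmodModule fun x => by
    apply Additive.toMul.injective
    rw [toMul_nsmul]; exact hexp _
  obtain ⟨ρ, hρ⟩ := exists_rep_of_addHom (p := p) (fun h => MonoidHom.toAdditive (f h))
    (fun w => Additive.toMul.injective (by simp [h1]))
    (fun a b w => Additive.toMul.injective (by simp [h2]))
  exact ⟨Additive A, inferInstance, inferInstance, ρ, Additive.toMul, fun a b => rfl,
    fun h w => by simp [hρ]⟩

variable {X : Type u} [Group X]

theorem exists_conjRep {p : ℕ} [Fact p.Prime] (H U : Subgroup X)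
    (hab : ∀ a ∈ U, ∀ b ∈ U, a * b = b * a) (hexp : ∀ a ∈ U, a ^ p = 1)
    (hinv : ∀ h ∈ H, ∀ u ∈ U, h * u * h⁻¹ ∈ U) :
    ∃ (W : Type u) (_ : AddCommGroup W) (_ : Module (ZMod p) W) (ρ : Representation (ZMod p) H W)
      (e : W ≃ U), (∀ a b, (e (a + b) : X) = e a * e b) ∧
        ∀ (h : H) w, (e (ρ h w) : X) = h * e w * (h : X)⁻¹ := by
  let _ : CommGroup U := { (inferInstance : Group U) with
    mul_comm := fun a b => Subtype.ext (hab a a.2 b b.2) }
  obtain ⟨W, i1, i2, ρ, e, h1, h2⟩ := exists_rep_of_commGroup (p := p) (H := H) (A := U)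
    (fun a => Subtype.ext (hexp a a.2))
    (fun h => { toFun := fun w => ⟨h * w * (h : X)⁻¹, hinv h h.2 _ w.2⟩
                map_one' := Subtype.ext (by simp)
                map_mul' := fun a b => Subtype.ext (by
                  show (h : X) * (a * b) * (h : X)⁻¹ = h * a * (h : X)⁻¹ * (h * b * (h : X)⁻¹)
                  group) })
    (fun a => Subtype.ext (by simp)) (fun g h a => Subtype.ext (by simp [mul_assoc]))
  exact ⟨W, i1, i2, ρ, e, fun a b => by rw [h1]; rfl, fun h w => by rw [h2]; rfl⟩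

theorem knorr_of_KGood [Finite X] {p : ℕ} [hp : Fact p.Prime] {V G : Subgroup X} [V.Normal]
    (hVexp : ∀ v ∈ V, v ^ p = 1) (hidx : ¬ p ∣ V.index)
    (hab : ∀ a ∈ V, ∀ b ∈ V, a * b = b * a)
    (hGV : Subgroup.IsComplement' V G) {v : X} (hv : v ∈ V) {M : Ideal AlgInt} [M.IsPrime]
    (hpM : (p : AlgInt) ∈ M) {H : Subgroup X} (hH : H = G ⊓ Subgroup.centralizer ({v} : Set X))
    {U : Subgroup X} (hUV : U ≤ V) (hfaith : ∀ h ∈ H, (∀ u ∈ U, h * u * h⁻¹ = u) → h = 1)
    {W : Type*} [AddCommGroup W] [Module (ZMod p) W] {ρ : Representation (ZMod p) H W}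
    (e : W ≃ U) (he : ∀ (h : H) w, (e (ρ h w) : X) = h * e w * (h : X)⁻¹)
    {ψ : H → ℂ} (hψ : KGood M ρ ψ) : Nat.card (ConjClasses X) ≤ Nat.card V := by
  obtain ⟨a1, a2, a3, a4, a5⟩ := hψ
  have hVp : IsPGroup p V := fun g => ⟨1, Subtype.ext (by simpa using hVexp g g.2)⟩
  refine knorr_criterion hVp hidx hab hGV hv hpM hH a1 (a2 1 (by simp)) (fun h hh => a3 h ?_) a4
    fun h => ?_
  · intro h1
    refine hh (Subtype.ext (hfaith h h.2 fun u hu => ?_))
    have := he h (e.symm ⟨u, hu⟩)
    rw [h1] at this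
    simpa using this.symm
  · obtain ⟨d, hd, hd'⟩ := a5 h
    refine ⟨d, hd, ?_⟩
    set C := Subgroup.centralizer ({(h : X)} : Set X)
    have h1 : Nat.card {w // ρ h w = w} = Nat.card (U ⊓ C : Subgroup X) := by
      refine Nat.card_congr
        { toFun := fun w => ⟨e w.1, (e w.1).2, ?_⟩
          invFun := fun u => ⟨e.symm ⟨u.1, u.2.1⟩, ?_⟩
          left_inv := fun w => by simp
          right_inv := fun u => by simp }
      · have := he h w.1
        rw [w.2] at this
        show (e w.1 : X) ∈ C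
        rw [Subgroup.mem_centralizer_singleton_iff]
        rw [eq_mul_inv_iff_mul_eq] at this; exact this
      · apply e.injective; ext
        have := Subgroup.mem_centralizer_singleton_iff.1 u.2.2
        rw [he]; simp [← this]
    rw [h1, Nat.card_congr e] at hd'
    have h2 : Nat.card (V ⊓ C : Subgroup X) * Nat.card U ≤
        Nat.card (U ⊓ C : Subgroup X) * Nat.card V := by
      have e1 := H2.card_sup_mul_card_inf (V ⊓ C) U (fun a ha => by
        rw [Subgroup.mem_normalizer_iff]
        intro u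
        constructor
        · intro hu
          rw [hab a ha.1 u (hUV hu)]; simpa using hu
        · intro hu
          have hu' : u ∈ V := by
            have := V.mul_mem (V.mul_mem (V.inv_mem ha.1) (hUV hu)) ha.1
            simpa [mul_assoc] using this
          rw [hab a ha.1 u hu'] at hu; simpa using hu)
      rw [← e1, mul_comm, inf_comm V C, inf_assoc, inf_eq_right.2 hUV, inf_comm C U]
      exact Nat.mul_le_mul_left _ (Subgroup.card_le_of_le (sup_le inf_le_right hUV))
    have h3 : 0 < Nat.card U := Nat.card_pos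
    refine Nat.le_of_mul_le_mul_right ?_ h3
    calc d * Nat.card (V ⊓ C : Subgroup X) * Nat.card U
        ≤ d * (Nat.card (U ⊓ C : Subgroup X) * Nat.card V) := by
          rw [mul_assoc]; exact Nat.mul_le_mul_left _ h2
      _ ≤ Nat.card U * Nat.card V := by rw [← mul_assoc]; exact Nat.mul_le_mul_right _ hd'
      _ = _ := mul_comm _ _

end Cfsg.Agent.Lead
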